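import Mathlib
import Cfsg.Agent.Lib.Invol.Bender.Tools
import Cfsg.Agent.Lib.Transfer.SFT.Main
import Cfsg.Agent.Lib.Local.CoreConsumers.Main
import Cfsg.Agent.Lib.Invol.StronglyEmbeddedCount

/-!
# Elementary abelian Sylow 2-subgroups and 2-nilpotent centralisers

A perfect group with trivial odd core, an elementary abelian Sylow 2-subgroup of order at least 8 and
centralisers of involutions with normal 2-complements has a single class of involutions.
-/

set_option autoImplicit false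
set_option linter.style.haveILetI false
set_option linter.unusedSectionVars false

namespace Cfsg.Agent.Grp.Pyramidal

open Subgroup

variable {Q : Type*} [Group Q] [Finite Q]

/-- The subgroup generated by the elements of odd order centralising `x`. -/
def oddCent (x : Q) : Subgroup Q := closure {g | g * x = x * g ∧ Odd (orderOf g)}

variable (S : Sylow 2 Q) (hcomm : ∀ a ∈ (S : Subgroup Q), ∀ b ∈ (S : Subgroup Q), a * b = b * a)
  (hsq : ∀ a ∈ (S : Subgroup Q), a * a = 1)
  (hnil : ∀ x ∈ (S : Subgroup Q), x ≠ 1 → ∀ y ∈ normalizer ((S : Subgroup Q) : Set Q),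
    y * x = x * y → ∀ s ∈ (S : Subgroup Q), y * s = s * y)

include hcomm hsq hnil

/-- The centraliser of an involution of `S` has a normal 2-complement. -/
theorem oddCent_spec {x : Q} (hx : x ∈ (S : Subgroup Q)) (hx1 : x ≠ 1) :
    (∀ g, g ∈ oddCent x ↔ g * x = x * g ∧ Odd (orderOf g)) ∧ Odd (Nat.card (oddCent x)) ∧
      ∀ g, g * x = x * g → ∃ k ∈ oddCent x, ∃ s ∈ (S : Subgroup Q), g = k * s := by
  haveI : Fact (Nat.Prime 2) := ⟨Nat.prime_two⟩
  set C := centralizer ({x} : Set Q) with hC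
  have hSC : (S : Subgroup Q) ≤ C := fun s hs =>
    mem_centralizer_singleton_iff.2 (hcomm s hs x hx)
  let P : Sylow 2 C := S.subtype hSC
  have hP : normalizer ((P : Subgroup C) : Set C) ≤ centralizer ((P : Subgroup C) : Set C) := by
    intro y hy
    refine mem_centralizer_iff.2 fun s hs => Subtype.ext ?_
    have hyn : (y : Q) ∈ normalizer ((S : Subgroup Q) : Set Q) := by
      refine Subgroup.mem_normalizer_fintype fun t ht => ?_
      exact (mem_normalizer_iff.1 hy ⟨t, hSC ht⟩).1 ht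
    exact (hnil x hx hx1 _ hyn (mem_centralizer_singleton_iff.1 y.2) _ hs).symm
  set τ := MonoidHom.transferSylow P hP
  have hKodd : Odd (Nat.card τ.ker) :=
    Nat.odd_iff.2 (Nat.two_dvd_ne_zero.1 (MonoidHom.not_dvd_card_ker_transferSylow P hP))
  have hmem : ∀ g : C, Odd (orderOf (g : Q)) → g ∈ τ.ker := by
    intro g hg
    rw [MonoidHom.mem_ker, ← orderOf_eq_one_iff]
    obtain ⟨k, hk⟩ := P.isPGroup' (τ g)
    obtain ⟨j, -, hj⟩ := (Nat.dvd_prime_pow Nat.prime_two).1 (orderOf_dvd_of_pow_eq_one hk)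
    have hd := orderOf_map_dvd τ g
    rw [← Subgroup.orderOf_coe g] at hd
    rw [hj] at hd ⊢
    have := hg.of_dvd_nat hd
    rcases j with _ | j
    · exact pow_zero 2
    · rw [Nat.odd_pow_iff (Nat.succ_ne_zero j)] at this
      exact absurd this (by decide)
  have hle : oddCent x = τ.ker.map C.subtype := by
    refine le_antisymm ((closure_le _).2 ?_) ?_
    · rintro g ⟨hg, ho⟩
      exact ⟨⟨g, mem_centralizer_singleton_iff.2 hg⟩, hmem _ ho, rfl⟩
    · rintro _ ⟨g, hg, rfl⟩
      refine subset_closure ⟨mem_centralizer_singleton_iff.1 g.2, ?_⟩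
      rw [C.subtype_apply, Subgroup.orderOf_coe]
      exact hKodd.of_dvd_nat (Subgroup.orderOf_dvd_natCard τ.ker hg)
  refine ⟨fun g => ⟨fun hg => ?_, fun hg => subset_closure hg⟩, ?_, fun g hg => ?_⟩
  · rw [hle] at hg
    obtain ⟨c, hc, rfl⟩ := hg
    refine ⟨mem_centralizer_singleton_iff.1 c.2, ?_⟩
    rw [C.subtype_apply, Subgroup.orderOf_coe]
    exact hKodd.of_dvd_nat (Subgroup.orderOf_dvd_natCard τ.ker hc)
  · rwa [hle, Subgroup.card_map_of_injective C.subtype_injective]
  · obtain ⟨⟨k, s⟩, hks, -⟩ := (MonoidHom.ker_transferSylow_isComplement' P hP).existsUnique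
      ⟨g, mem_centralizer_singleton_iff.2 hg⟩
    refine ⟨_, hle ▸ ⟨k.1, k.2, rfl⟩, _, s.2, (congrArg Subtype.val hks).symm⟩

variable (h8 : 8 ≤ Nat.card (S : Subgroup Q))
  (hcore : ∀ K : Subgroup Q, K.Normal → Odd (Nat.card K) → K = ⊥)
  (hperf : commutator Q = ⊤)

include h8 hcore hperf

theorem isConj_of_two_nilpotent {a b : Q} (ha : orderOf a = 2) (hb : orderOf b = 2) : IsConj a b := by
  classical
  haveI : Fact (Nat.Prime 2) := ⟨Nat.prime_two⟩
  set A : Subgroup Q := (S : Subgroup Q) with hA'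
  have hA : Cfsg.IsElementaryAbelian 2 A :=
    ⟨⟨⟨fun u v => Subtype.ext (hcomm u u.2 v v.2)⟩⟩, fun u hu => by rw [pow_two, hsq u hu]⟩
  have spec := fun (x : Q) (hx : x ∈ A) (hx1 : x ≠ 1) => oddCent_spec S hcomm hsq hnil hx hx1
  have hθ : Cfsg.IsSolvableSignalizerFunctor 2 A oddCent := by
    refine ⟨⟨fun x hx hx1 g hg => mem_centralizer_singleton_iff.2 ((spec x hx hx1).1 g |>.1 hg).1,
      fun x hx hx1 => ?_, fun x hx hx1 c hc g hg => ?_, fun x hx hx1 y hy hy1 g hg => ?_⟩,
      fun x hx hx1 => Invol.Bender.solvable_of_odd (spec x hx hx1).2.1⟩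
    · exact (spec x hx hx1).2.1.not_two_dvd_nat
    · obtain ⟨h1, h2⟩ := (spec x hx hx1).1 g |>.1 hg
      refine ((spec x hx hx1).1 _).2 ⟨?_, by rwa [Invol.orderOf_conj_eq]⟩
      have hxc : c * x = x * c := hcomm c hc x hx
      have hxc' : c⁻¹ * x = x * c⁻¹ := hcomm _ (A.inv_mem hc) x hx
      rw [mul_assoc (c * g), hxc', ← mul_assoc (c * g), mul_assoc c g x, h1, ← mul_assoc c x g, hxc]
      group
    · exact ((spec y hy hy1).1 g).2 ⟨mem_centralizer_singleton_iff.1 hg.2,
        ((spec x hx hx1).1 g |>.1 hg.1).2⟩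
  obtain ⟨hWsol, hWodd, hAW, hWint⟩ :=
    Transfer.SFT.closure_complete hA (by norm_num; exact h8) hθ
  set W := Cfsg.signalizerClosure A oddCent with hW
  set NS := normalizer (A : Set Q)
  have hNSW : NS ≤ normalizer (W : Set Q) := by
    intro g hg
    refine Subgroup.mem_normalizer_fintype fun w hw => ?_
    have hmap : W ≤ W.comap (MulAut.conj g).toMonoidHom := by
      refine iSup_le fun x => ?_
      intro k hk
      obtain ⟨h1, h2⟩ := (spec x x.2.1 x.2.2).1 k |>.1 hk
      have hgx : g * (x : Q) * g⁻¹ ∈ A := (mem_normalizer_iff.1 hg _).1 x.2.1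
      have hgx1 : g * (x : Q) * g⁻¹ ≠ 1 := fun e => x.2.2 (conj_eq_one_iff.1 e)
      refine le_iSup (fun z : {z : Q // z ∈ A ∧ z ≠ 1} => oddCent (z : Q)) ⟨_, hgx, hgx1⟩ ?_
      refine ((spec _ hgx hgx1).1 _).2 ⟨?_, by
        change Odd (orderOf (g * k * g⁻¹)); rwa [Invol.orderOf_conj_eq]⟩
      change g * k * g⁻¹ * (g * x * g⁻¹) = g * x * g⁻¹ * (g * k * g⁻¹)
      rw [show g * k * g⁻¹ * (g * x * g⁻¹) = g * (k * x) * g⁻¹ by group, h1]
      group
    exact hmap hw
  set M := if W = ⊥ then NS else normalizer (W : Set Q) with hM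
  have hne : (A : Subgroup Q) ≠ ⊥ := fun e => by rw [e, Subgroup.card_bot] at h8; omega
  have hMtop : M ≠ ⊤ := by
    rw [hM]
    split_ifs with hW0
    · intro htop
      haveI : A.Normal := normalizer_eq_top_iff.1 htop
      have hodd : Odd (Nat.card (Q ⧸ A)) := Nat.odd_iff.2 (Nat.two_dvd_ne_zero.1 S.not_dvd_index)
      haveI : Group.IsPerfect Q := (Group.isPerfect_def).2 hperf
      haveI : Group.IsPerfect (Q ⧸ A) := inferInstance
      rcases subsingleton_or_nontrivial (Q ⧸ A) with hs | hs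
      · have hAtop : A = ⊤ := Subgroup.index_eq_one.1 (Nat.card_unique (α := Q ⧸ A))
        have hQ : commutator Q = ⊥ := by
          rw [_root_.commutator_def, commutator_eq_bot_iff_le_centralizer]
          intro u _
          exact mem_centralizer_iff.2 fun v _ => hcomm v (hAtop ▸ mem_top v) u (hAtop ▸ mem_top u)
        rw [hperf] at hQ
        exact hne (le_bot_iff.1 (hQ ▸ le_top))
      · exact Group.IsPerfect.not_isSolvable (Q ⧸ A) (Cfsg.Agent.S0205.result hodd)
    · intro htop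
      haveI : W.Normal := normalizer_eq_top_iff.1 htop
      exact hW0 (hcore W inferInstance (Nat.odd_iff.2 (Nat.two_dvd_ne_zero.1 hWodd)))
  have hNSM : NS ≤ M := by
    rw [hM]; split_ifs
    · exact le_rfl
    · exact hNSW
  have hCM : ∀ t ∈ A, orderOf t = 2 → centralizer ({t} : Set Q) ≤ M := by
    intro t ht ht2 g hg
    have ht1 : t ≠ 1 := fun e => by simp [e] at ht2
    obtain ⟨k, hk, s, hs, rfl⟩ := (spec t ht ht1).2.2 g (mem_centralizer_singleton_iff.1 hg)
    have hkW : k ∈ W := le_iSup (fun z : {z : Q // z ∈ A ∧ z ≠ 1} => oddCent (z : Q)) ⟨t, ht, ht1⟩ hk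
    refine M.mul_mem ?_ (hNSM (le_normalizer hs))
    rw [hM]; split_ifs with hW0
    · rw [hW0, mem_bot] at hkW; rw [hkW]; exact one_mem _
    · exact le_normalizer hkW
  exact Invol.isConj_involutions
    (CoreConsumers.isStronglyEmbedded_of_centralizers hMtop S hNSM hne hCM) ha hb

end Cfsg.Agent.Grp.Pyramidal
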