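import Mathlib

/-!
# Two-groups with central involutions and squares

Elementary character sums for a finite group `T` with a central subgroup `V` which contains all
squares and consists of the solutions of `x * x = 1`.
-/

set_option autoImplicit false
set_option linter.style.haveILetI false

namespace Cfsg.Agent.Grp.Pyramidal

open Subgroup Finset

/-- The square of a sum of signs of a quadratic function. -/
theorem sum_mul_sum_eq {W : Type*} [Group W] [Fintype W] (f : W → ℤ) (B : W → (W →* ℤ))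
    [DecidablePred fun h => B h = 1]
    (hf : ∀ x, f x * f x = 1) (hB : ∀ x h, f (x * h) = f x * f h * B h x) :
    (∑ x, f x) * (∑ x, f x) =
      (Fintype.card W : ℤ) * ∑ h ∈ univ.filter (fun h => B h = 1), f h := by
  rw [sum_mul_sum]
  have h1 : ∀ x, ∑ y, f x * f y = ∑ h, f h * B h x := fun x => by
    rw [← Equiv.sum_comp (Equiv.mulLeft x)]
    refine sum_congr rfl fun h _ => ?_
    rw [Equiv.coe_mulLeft, hB]
    linear_combination (f h * B h x) * hf x
  rw [sum_congr rfl fun x _ => h1 x, sum_comm, mul_sum, sum_filter]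
  refine sum_congr rfl fun h _ => ?_
  rw [← mul_sum, sum_hom_units]
  split_ifs <;> push_cast <;> ring

/-- Characters with values in the integers of a finite group of exponent two separate. -/
theorem exists_char {Q : Type*} [CommGroup Q] [Finite Q] (h2 : ∀ a : Q, a * a = 1) {U : Subgroup Q}
    (hU : U ≠ ⊤) : ∃ χ : Q →* ℤ, χ ≠ 1 ∧ ∀ u ∈ U, χ u = 1 := by
  classical
  obtain ⟨a, ha⟩ : ∃ a, a ∉ U := by
    by_contra h
    push Not at h
    exact hU ((Subgroup.eq_top_iff' U).2 h)
  have hne : (QuotientGroup.mk a : Q ⧸ U) ≠ 1 := fun h => ha ((QuotientGroup.eq_one_iff a).1 h)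
  have hexp : Monoid.exponent (Q ⧸ U) ∣ 2 :=
    Monoid.exponent_dvd_of_forall_pow_eq_one fun x => by
      induction x using QuotientGroup.induction_on with
      | H x => rw [pow_two, ← QuotientGroup.mk_mul, h2]; rfl
  haveI : HasEnoughRootsOfUnity ℤ 2 :=
    { prim := ⟨-1, IsPrimitiveRoot.neg_one 0 (by norm_num)⟩
      cyc := inferInstance }
  haveI : HasEnoughRootsOfUnity ℤ (Monoid.exponent (Q ⧸ U)) :=
    HasEnoughRootsOfUnity.of_dvd ℤ hexp
  obtain ⟨φ, hφ⟩ := CommGroup.exists_apply_ne_one_of_hasEnoughRootsOfUnity (Q ⧸ U) ℤ hne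
  refine ⟨(Units.coeHom ℤ).comp (φ.comp (QuotientGroup.mk' U)), fun h => hφ (Units.ext ?_),
    fun u hu => ?_⟩
  · exact DFunLike.congr_fun h a
  · simp [(QuotientGroup.eq_one_iff u).2 hu]

theorem char_mul_self {Q : Type*} [Group Q] (h2 : ∀ a : Q, a * a = 1) (χ : Q →* ℤ) (a : Q) :
    χ a * χ a = 1 := by rw [← map_mul, h2, map_one]

variable {T : Type*} [Group T]

/-- The standing hypothesis. -/
structure SqData (V : Subgroup T) : Prop where
  central : ∀ v ∈ V, ∀ x : T, x * v = v * x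
  invol : ∀ x : T, x * x = 1 ↔ x ∈ V
  sq : ∀ x : T, x * x ∈ V

namespace SqData

variable {V : Subgroup T} (hV : SqData V)

include hV

theorem normal : V.Normal := ⟨fun v hv g => by rwa [hV.central v hv g, mul_inv_cancel_right]⟩

theorem cm_mem (x y : T) : x * y * x⁻¹ * y⁻¹ ∈ V := by
  haveI := hV.normal
  have e : x * y * x⁻¹ * y⁻¹ = x * y * (x * y) * (y⁻¹ * (x * x)⁻¹ * y) * (y * y)⁻¹ := by group
  rw [e]
  exact V.mul_mem (V.mul_mem (hV.sq _) (Subgroup.Normal.conj_mem' inferInstance _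
    (V.inv_mem (hV.sq x)) y)) (V.inv_mem (hV.sq y))

theorem mul_self_coe (v : V) : v * v = 1 := Subtype.ext ((hV.invol v.1).2 v.2)

theorem comm_coe (v w : V) : v * w = w * v := Subtype.ext ((hV.central w w.2 v).trans rfl)

/-- `V` is commutative. -/
abbrev commGroupV : CommGroup V :=
  { (inferInstance : Group V) with mul_comm := hV.comm_coe }

/-- Multiplication by an element of `V` does not change squares. -/
theorem sq_mul (x : T) {v : T} (hv : v ∈ V) : x * v * (x * v) = x * x := by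
  rw [mul_assoc, ← mul_assoc v x v, ← hV.central v hv x, mul_assoc x v v, (hV.invol v).2 hv,
    mul_one]

/-- Commutation with a fixed element. -/
noncomputable def cmHom (d : T) : T →* V :=
  MonoidHom.mk' (fun x => ⟨d * x * d⁻¹ * x⁻¹, hV.cm_mem d x⟩) fun x y => Subtype.ext <| by
    change d * (x * y) * d⁻¹ * (x * y)⁻¹ = d * x * d⁻¹ * x⁻¹ * (d * y * d⁻¹ * y⁻¹)
    conv_rhs => rw [mul_assoc (d * x * d⁻¹) x⁻¹, hV.central _ (hV.cm_mem d y) x⁻¹]
    group

theorem coe_cmHom (d x : T) : (hV.cmHom d x : T) = d * x * d⁻¹ * x⁻¹ := rfl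

theorem cmHom_self (d : T) : hV.cmHom d d = 1 := Subtype.ext (by rw [hV.coe_cmHom]; simp)

theorem cmHom_of_mem {d : T} (hd : d ∈ V) (x : T) : hV.cmHom d x = 1 :=
  Subtype.ext (by rw [hV.coe_cmHom, ← hV.central d hd x]; simp)

theorem cmHom_mem_right (d : T) {x : T} (hx : x ∈ V) : hV.cmHom d x = 1 :=
  Subtype.ext (by rw [hV.coe_cmHom, hV.central x hx d]; simp)

theorem cmHom_swap (d x : T) : hV.cmHom d x = 1 → hV.cmHom x d = 1 := by
  intro h
  have h1 := congrArg Subtype.val h
  rw [hV.coe_cmHom] at h1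
  refine Subtype.ext ?_
  rw [hV.coe_cmHom, show x * d * x⁻¹ * d⁻¹ = (d * x * d⁻¹ * x⁻¹)⁻¹ by group]
  simp [show (((1 : V)) : T) = 1 from rfl, h1]

/-- The square, as an element of `V`. -/
def sqV (x : T) : V := ⟨x * x, hV.sq x⟩

theorem sqV_mul (x h : T) : hV.sqV (x * h) = hV.sqV x * hV.sqV h * hV.cmHom h x := by
  rw [hV.comm_coe]
  refine Subtype.ext ?_
  change x * h * (x * h) = (hV.cmHom h x : T) * (x * x * (h * h))
  rw [← mul_assoc _ (x * x), ← mul_assoc _ x x, ← hV.central _ (hV.cmHom h x).2 x, hV.coe_cmHom]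
  group

theorem fix_V (φ : MulAut T) {v : T} (hv : v ∈ V) : φ v ∈ V := by
  rw [← hV.invol, ← map_mul, (hV.invol v).2 hv, map_one]

variable [V.Normal]

/-- The map `t ↦ t⁻¹ * φ t` modulo `V`. -/
noncomputable def delta (φ : MulAut T) : T →* T ⧸ V :=
  MonoidHom.mk' (fun t => QuotientGroup.mk (t⁻¹ * φ t)) fun s t => by
    have hc : ∀ a b : T, (QuotientGroup.mk (a * b) : T ⧸ V) = QuotientGroup.mk (b * a) := by
      intro a b
      rw [QuotientGroup.eq]
      rw [show (a * b)⁻¹ * (b * a) = b⁻¹ * a⁻¹ * b⁻¹⁻¹ * a⁻¹⁻¹ by group]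
      exact hV.cm_mem b⁻¹ a⁻¹
    rw [map_mul, mul_inv_rev, show t⁻¹ * s⁻¹ * (φ s * φ t) = t⁻¹ * ((s⁻¹ * φ s) * φ t) by group,
      QuotientGroup.mk_mul, hc, ← QuotientGroup.mk_mul, ← mul_assoc, hc, QuotientGroup.mk_mul]

theorem mem_ker_delta (φ : MulAut T) (t : T) : t ∈ (hV.delta φ).ker ↔ t⁻¹ * φ t ∈ V :=
  QuotientGroup.eq_one_iff _

theorem delta_apply (φ : MulAut T) (t : T) : hV.delta φ t = QuotientGroup.mk (t⁻¹ * φ t) := rfl

theorem card_ker_mul (φ : MulAut T) [Finite T] :
    Nat.card (hV.delta φ).ker * Nat.card ((hV.delta φ).range.comap (QuotientGroup.mk' V)) =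
      Nat.card V * Nat.card T := by
  have h1 : Nat.card (hV.delta φ).ker * Nat.card (hV.delta φ).range = Nat.card T := by
    rw [← Nat.card_congr (QuotientGroup.quotientKerEquivRange (hV.delta φ)).toEquiv,
      ← Subgroup.index, mul_comm, Subgroup.index_mul_card]
  have h2 : Nat.card ((hV.delta φ).range.comap (QuotientGroup.mk' V)) =
      Nat.card V * Nat.card (hV.delta φ).range :=
    (Nat.card_congr (QuotientGroup.preimageMkEquivSubgroupProdSet V
      ((hV.delta φ).range : Set (T ⧸ V)))).trans (Nat.card_prod _ _)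
  rw [h2, mul_left_comm, h1]

end SqData

end Cfsg.Agent.Grp.Pyramidal
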