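import Mathlib
import Cfsg.Agent.Lib.Grp.Pyramidal.SqMap
import Cfsg.Agent.Lib.Fus.SuzukiTwoBasic

/-!
# A `p`-automorphism transitive on central involutions has order `p`

Let `T` be a 2-group whose involutions are central and, with `1`, form a subgroup `V` of order
`2 ^ n`, where `p = 2 ^ n - 1` is prime. An automorphism of `p`-power order whose `p`-th power fixes
`V` has order at most `p`.
-/

set_option autoImplicit false
set_option linter.style.haveILetI false
set_option linter.unusedSectionVars false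

namespace Cfsg.Agent.Grp.Pyramidal

open Subgroup Finset
open Cfsg.Agent.Invol.TypeA (cm)

/-- If `p = 2 ^ n - 1` is prime and `p ^ 2` divides `2 ^ d - 1`, then `3 * n ≤ d`. -/
theorem three_mul_le_of_sq_dvd {p n d : ℕ} (hp : p.Prime) (hp3 : 3 ≤ p) (hpn : p + 1 = 2 ^ n)
    (hd : d ≠ 0) (h : p ^ 2 ∣ 2 ^ d - 1) : 3 * n ≤ d := by
  haveI := Fact.mk hp
  have hn : n ≠ 0 := by rintro rfl; simp at hpn; omega
  have h1 : ((2 ^ d : ℕ) : ZMod (p ^ 2)) = 1 := by
    have := (ZMod.natCast_eq_zero_iff (2 ^ d - 1) (p ^ 2)).2 h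
    rw [Nat.cast_sub Nat.one_le_two_pow, sub_eq_zero] at this
    simpa using this
  have h2 : (2 : ZMod p) ^ d = 1 := by
    have := (ZMod.natCast_eq_zero_iff (2 ^ d - 1) p).2 ((dvd_pow_self p two_ne_zero).trans h)
    rw [Nat.cast_sub Nat.one_le_two_pow, sub_eq_zero] at this
    simpa using this
  have h3 : (2 : ZMod p) ^ n = 1 := by
    have := congrArg (fun m : ℕ => (m : ZMod p)) hpn
    simpa using this.symm
  have hr : d % n = 0 := by
    rw [← Nat.div_add_mod d n, pow_add, pow_mul, h3, one_pow, one_mul] at h2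
    have hlt : 2 ^ (d % n) < p + 1 := by
      rw [hpn]; exact Nat.pow_lt_pow_right one_lt_two (Nat.mod_lt _ (Nat.pos_of_ne_zero hn))
    have h4 : ((2 ^ (d % n) - 1 : ℕ) : ZMod p) = 0 := by
      rw [Nat.cast_sub Nat.one_le_two_pow]; simp [h2]
    rw [ZMod.natCast_eq_zero_iff] at h4
    have h5 := Nat.eq_zero_of_dvd_of_lt h4 (by have := Nat.one_le_two_pow (n := d % n); omega)
    by_contra hne
    have := Nat.one_lt_two_pow hne
    omega
  obtain ⟨k, rfl⟩ := Nat.dvd_of_mod_eq_zero hr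
  -- expand `(1 + p) ^ k` modulo `p ^ 2`
  have hexp : ∀ k : ℕ, ((p + 1 : ℕ) : ZMod (p ^ 2)) ^ k = 1 + (k : ZMod (p ^ 2)) * p := by
    intro k
    have hpp : (p : ZMod (p ^ 2)) * p = 0 := by
      rw [← Nat.cast_mul, ← pow_two, ZMod.natCast_self]
    induction k with
    | zero => simp
    | succ k ih =>
      rw [pow_succ (((p + 1 : ℕ)) : ZMod (p ^ 2)), ih]
      push_cast
      linear_combination (k : ZMod (p ^ 2)) * hpp
  rw [pow_mul, ← hpn, Nat.cast_pow, hexp, add_eq_left, ← Nat.cast_mul,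
    ZMod.natCast_eq_zero_iff, pow_two] at h1
  have hk : p ∣ k := Nat.dvd_of_mul_dvd_mul_right hp.pos h1
  have hk0 : k ≠ 0 := by rintro rfl; simp at hd
  calc 3 * n = n * 3 := mul_comm _ _
    _ ≤ n * k := Nat.mul_le_mul_left _ (hp3.trans (Nat.le_of_dvd (Nat.pos_of_ne_zero hk0) hk))

variable {T : Type*} [Group T] [Finite T]

/-- The quadratic count: `W = X / Z` cannot be large. -/
theorem card_quotient_le {X : Type*} [Group X] [Finite X] (hX : IsPGroup 2 X) (Z : Subgroup X)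
    (hc : ∀ z ∈ Z, ∀ x : X, x * z = z * x) (hsq : ∀ x : X, x * x ∈ Z)
    (hinv : ∀ x : X, x * x = 1 → x ∈ Z) {q : ℕ} (hq : Nat.card {z : X // z * z = 1} ≤ q) {d : ℕ}
    (hd : Nat.card X = Nat.card Z * 2 ^ d) : 2 ^ ((d + 1) / 2) ≤ q := by
  classical
  haveI : Fact (Nat.Prime 2) := ⟨Nat.prime_two⟩
  haveI : Fintype X := Fintype.ofFinite X
  haveI : Z.Normal := ⟨fun z hz g => by rwa [hc z hz g, mul_inv_cancel_right]⟩
  letI : CommGroup Z := { (inferInstance : Group Z) with
    mul_comm := fun a b => Subtype.ext (hc b b.2 a) }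
  set S2 := (powMonoidHom 2 : Z →* Z).range with hS2
  letI : Fintype (Z ⧸ S2) := Fintype.ofFinite _
  have hsqQ : ∀ a : Z ⧸ S2, a * a = 1 := fun a => by
    induction a using QuotientGroup.induction_on with
    | H a =>
      rw [← QuotientGroup.mk_mul, QuotientGroup.eq_one_iff]
      exact ⟨a, pow_two a⟩
  haveI : Finite ((Z ⧸ S2) →* ℤˣ) := Finite.of_injective _ DFunLike.coe_injective
  letI : Fintype ((Z ⧸ S2) →* ℤˣ) := Fintype.ofFinite _
  have horth : ∀ a : Z ⧸ S2, (∑ ψ : (Z ⧸ S2) →* ℤˣ, (ψ a : ℤ)) =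
      if a = 1 then (Fintype.card ((Z ⧸ S2) →* ℤˣ) : ℤ) else 0 := by
    intro a
    split_ifs with ha
    · subst ha; simp
    obtain ⟨χ, -, hχ⟩ : ∃ χ : (Z ⧸ S2) →* ℤˣ, True ∧ χ a = -1 := by
      have hexp : Monoid.exponent (Z ⧸ S2) ∣ 2 :=
        Monoid.exponent_dvd_of_forall_pow_eq_one fun x => by rw [pow_two, hsqQ]
      haveI : HasEnoughRootsOfUnity ℤ 2 :=
        { prim := ⟨-1, IsPrimitiveRoot.neg_one 0 (by norm_num)⟩
          cyc := inferInstance }
      haveI : HasEnoughRootsOfUnity ℤ (Monoid.exponent (Z ⧸ S2)) :=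
        HasEnoughRootsOfUnity.of_dvd ℤ hexp
      obtain ⟨φ, hφ⟩ := CommGroup.exists_apply_ne_one_of_hasEnoughRootsOfUnity (Z ⧸ S2) ℤ ha
      exact ⟨φ, trivial, (Int.units_eq_one_or _).resolve_left hφ⟩
    have h1 := Equiv.sum_comp (Equiv.mulLeft χ) fun ψ : (Z ⧸ S2) →* ℤˣ => (ψ a : ℤ)
    simp only [Equiv.coe_mulLeft, MonoidHom.mul_apply, hχ, Units.val_mul, Units.val_neg,
      Units.val_one, neg_mul, one_mul, sum_neg_distrib] at h1
    omega
  have hN : Fintype.card ((Z ⧸ S2) →* ℤˣ) = Fintype.card (Z ⧸ S2) := by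
    have h1 : (∑ a : Z ⧸ S2, ∑ ψ : (Z ⧸ S2) →* ℤˣ, (ψ a : ℤ)) =
        Fintype.card ((Z ⧸ S2) →* ℤˣ) := by
      rw [sum_congr rfl fun a _ => horth a, sum_ite_eq' univ (1 : Z ⧸ S2), if_pos (mem_univ _)]
    rw [sum_comm] at h1
    have h2 : ∀ ψ : (Z ⧸ S2) →* ℤˣ, (∑ a, (ψ a : ℤ)) =
        if ψ = 1 then (Fintype.card (Z ⧸ S2) : ℤ) else 0 := fun ψ => by
      rw [show (∑ a, (ψ a : ℤ)) = ∑ a, ((Units.coeHom ℤ).comp ψ) a from rfl, sum_hom_units]
      have : (Units.coeHom ℤ).comp ψ = 1 ↔ ψ = 1 :=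
        ⟨fun h => MonoidHom.ext fun a => Units.ext (DFunLike.congr_fun h a), fun h => by
          rw [h, MonoidHom.comp_one]⟩
      split_ifs with ha hb hb <;> simp_all
    rw [sum_congr rfl fun ψ _ => h2 ψ, sum_ite_eq' univ (1 : (Z ⧸ S2) →* ℤˣ),
      if_pos (mem_univ _)] at h1
    exact_mod_cast h1.symm
  have hQ : Fintype.card (Z ⧸ S2) ≤ q := by
    rw [← Nat.card_eq_fintype_card]
    have h1 := Subgroup.index_mul_card S2
    have h2 := Subgroup.index_mul_card (powMonoidHom 2 : Z →* Z).ker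
    rw [Subgroup.index, Nat.card_congr (QuotientGroup.quotientKerEquivRange _).toEquiv] at h2
    rw [Subgroup.index, ← h2, ← hS2, mul_comm] at h1
    rw [Nat.eq_of_mul_eq_mul_left Nat.card_pos h1]
    refine le_trans (Nat.card_le_card_of_injective (fun z => (⟨(z.1.1 : X), ?_⟩ : {z : X // z * z = 1}))
      fun a b e => Subtype.ext (Subtype.ext (congrArg Subtype.val e :))) hq
    have hz := z.2
    rw [MonoidHom.mem_ker, powMonoidHom_apply, pow_two] at hz
    exact congrArg Subtype.val hz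
  -- the squaring map
  let s : X → Z ⧸ S2 := fun x => QuotientGroup.mk (⟨x * x, hsq x⟩ : Z)
  have hs1 : ∀ x, s x = 1 ↔ x ∈ Z := by
    intro x
    constructor
    · intro h
      obtain ⟨z, hz⟩ := (QuotientGroup.eq_one_iff _).1 h
      have hz' : (z : X) * z = x * x := by
        have := congrArg Subtype.val hz
        simpa [pow_two] using this
      have h1 : x * (z : X)⁻¹ ∈ Z := hinv _ (by
        have hzc := hc _ (Z.inv_mem z.2) x
        rw [mul_assoc, ← mul_assoc ((z : X)⁻¹), ← hzc, mul_assoc x, ← mul_inv_rev, hz', ← mul_assoc,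
          mul_inv_cancel])
      simpa using Z.mul_mem h1 z.2
    · exact fun hx => (QuotientGroup.eq_one_iff _).2 ⟨⟨x, hx⟩, Subtype.ext (pow_two x)⟩
  have hcm : ∀ h x : X, h * x * h⁻¹ * x⁻¹ ∈ Z := fun h x => by
    rw [show h * x * h⁻¹ * x⁻¹ = h * x * (h * x) * (x⁻¹ * (h * h)⁻¹ * x) * (x * x)⁻¹ by group]
    exact Z.mul_mem (Z.mul_mem (hsq _) (Subgroup.Normal.conj_mem' inferInstance _
      (Z.inv_mem (hsq h)) x)) (Z.inv_mem (hsq x))
  let cH : X → (X →* Z) := fun h =>
    MonoidHom.mk' (fun x => ⟨h * x * h⁻¹ * x⁻¹, hcm h x⟩) fun x y => Subtype.ext <| by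
      change h * (x * y) * h⁻¹ * (x * y)⁻¹ = h * x * h⁻¹ * x⁻¹ * (h * y * h⁻¹ * y⁻¹)
      conv_rhs => rw [mul_assoc (h * x * h⁻¹) x⁻¹, hc _ (hcm h y) x⁻¹]
      group
  have hcl : ∀ a b x, cH (a * b) x = cH a x * cH b x := fun a b x => Subtype.ext <| by
    change a * b * x * (a * b)⁻¹ * x⁻¹ = a * x * a⁻¹ * x⁻¹ * (b * x * b⁻¹ * x⁻¹)
    rw [show a * b * x * (a * b)⁻¹ * x⁻¹ = a * (b * x * b⁻¹ * x⁻¹) * (x * a⁻¹ * x⁻¹) by group,
      hc _ (hcm b x) a, mul_assoc, show a * (x * a⁻¹ * x⁻¹) = a * x * a⁻¹ * x⁻¹ by group]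
    exact (hc _ (hcm b x) _).symm
  have hc1 : ∀ x, cH 1 x = 1 := fun x => Subtype.ext (by change 1 * x * (1 : X)⁻¹ * x⁻¹ = 1; simp)
  have hsmul : ∀ x h, s (x * h) = s x * s h * QuotientGroup.mk (cH h x) := by
    intro x h
    change (QuotientGroup.mk (⟨x * h * (x * h), hsq _⟩ : Z) : Z ⧸ S2) =
      QuotientGroup.mk (⟨x * x, hsq x⟩ : Z) * QuotientGroup.mk (⟨h * h, hsq h⟩ : Z) * _
    rw [← QuotientGroup.mk_mul, ← QuotientGroup.mk_mul]
    refine congrArg _ ?_
    rw [mul_comm]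
    refine Subtype.ext ?_
    change x * h * (x * h) = (cH h x : X) * (x * x * (h * h))
    rw [← mul_assoc _ (x * x), ← mul_assoc _ x x, ← hc _ (cH h x).2 x]
    change _ = x * (h * x * h⁻¹ * x⁻¹) * x * (h * h)
    group
  obtain ⟨z, hz⟩ := IsPGroup.iff_card.1 (hX.to_subgroup Z)
  have hdiv : ∀ ψ : (Z ⧸ S2) →* ℤˣ, (2 ^ (z + (d + 1) / 2) : ℤ) ∣ ∑ x, (ψ (s x) : ℤ) := by
    intro ψ
    set f : X → ℤ := fun x => (ψ (s x) : ℤ) with hf
    set B : X → (X →* ℤ) := fun h =>
      (Units.coeHom ℤ).comp (ψ.comp ((QuotientGroup.mk' S2).comp (cH h)))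
    have hB : ∀ x h, f (x * h) = f x * f h * B h x := fun x h => by
      simp only [hf, B, hsmul, map_mul, Units.val_mul]
      rfl
    let R : Subgroup X :=
      { carrier := {h | B h = 1}
        one_mem' := MonoidHom.ext fun x => by
          change ((ψ (QuotientGroup.mk (cH 1 x)) : ℤˣ) : ℤ) = 1
          rw [hc1]
          simp
        mul_mem' := fun {a b} ha hb => MonoidHom.ext fun x => by
          change ((ψ (QuotientGroup.mk (cH (a * b) x)) : ℤˣ) : ℤ) = 1
          rw [hcl]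
          rw [QuotientGroup.mk_mul, map_mul, Units.val_mul,
            show ((ψ (QuotientGroup.mk (cH a x)) : ℤˣ) : ℤ) = 1 from DFunLike.congr_fun ha x,
            show ((ψ (QuotientGroup.mk (cH b x)) : ℤˣ) : ℤ) = 1 from DFunLike.congr_fun hb x, one_mul]
        inv_mem' := fun {a} ha => MonoidHom.ext fun x => by
          change ((ψ (QuotientGroup.mk (cH a⁻¹ x)) : ℤˣ) : ℤ) = 1
          rw [eq_inv_of_mul_eq_one_left (show cH a⁻¹ x * cH a x = 1 by rw [← hcl, inv_mul_cancel, hc1])]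
          rw [QuotientGroup.mk_inv, map_inv]
          have h' : ψ (QuotientGroup.mk (cH a x)) = 1 := Units.ext (DFunLike.congr_fun ha x)
          simp [h'] }
    have hZR : Z ≤ R := fun w hw => MonoidHom.ext fun x => by
      change ((ψ (QuotientGroup.mk (cH w x)) : ℤˣ) : ℤ) = 1
      rw [show cH w x = 1 from Subtype.ext (by
        change w * x * w⁻¹ * x⁻¹ = 1; rw [← hc w hw x]; group)]
      simp
    have hf1 : f 1 = 1 := by
      simp only [hf]
      rw [(hs1 1).2 Z.one_mem, map_one, Units.val_one]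
    let fR : R →* ℤ :=
      { toFun := fun h => f (h : X)
        map_one' := hf1
        map_mul' := fun a b => by
          change f ((a : X) * b) = f (a : X) * f (b : X)
          rw [hB, show B (b : X) = 1 from b.2, MonoidHom.one_apply, mul_one] }
    have hkey := sum_mul_sum_eq f B (fun x => by
      simp only [hf, ← Units.val_mul, Int.units_mul_self, Units.val_one]) hB
    have hsum : (∑ h ∈ univ.filter (fun h => B h = 1), f h) = ∑ h : R, fR h :=
      sum_subtype _ (fun h => by simp; rfl) f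
    rw [hsum, sum_hom_units] at hkey
    set S := ∑ x, f x
    split_ifs at hkey with hfR
    · obtain ⟨r, hr⟩ := IsPGroup.iff_card.1 (hX.to_subgroup R)
      have hzr : z ≤ r := by
        have := Subgroup.card_le_of_le hZR
        rw [hz, hr] at this
        exact (Nat.pow_le_pow_iff_right one_lt_two).1 this
      rw [← Nat.card_eq_fintype_card, ← Nat.card_eq_fintype_card, hd, hz, hr, ← Nat.cast_mul,
        ← pow_add, ← pow_add] at hkey
      have habs : S.natAbs * S.natAbs = 2 ^ (z + d + r) := by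
        rw [← Int.natAbs_mul, hkey, Int.natAbs_natCast]
      obtain ⟨j, -, hj⟩ := (Nat.dvd_prime_pow Nat.prime_two).1 ⟨_, habs.symm⟩
      rw [hj, ← pow_add] at habs
      have := Nat.pow_right_injective le_rfl habs
      rw [show (2 ^ (z + (d + 1) / 2) : ℤ) = ((2 ^ (z + (d + 1) / 2) : ℕ) : ℤ) by push_cast; rfl,
        Int.natCast_dvd, hj]
      exact pow_dvd_pow 2 (by omega)
    · rw [Nat.cast_zero, mul_zero, mul_self_eq_zero] at hkey
      rw [hkey]
      exact dvd_zero _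
  have htot : (∑ ψ : (Z ⧸ S2) →* ℤˣ, ∑ x, (ψ (s x) : ℤ)) =
      (Nat.card Z : ℤ) * Fintype.card (Z ⧸ S2) := by
    rw [sum_comm, sum_congr rfl fun x _ => horth (s x), sum_ite, sum_const_zero, add_zero,
      sum_const, nsmul_eq_mul, hN]
    congr 1
    rw [Nat.card_eq_fintype_card, Fintype.card_subtype]
    congr 2
    ext x
    simp [hs1]
  have hd2 : ((2 ^ (z + (d + 1) / 2) : ℕ) : ℤ) ∣ (Nat.card Z : ℤ) * Fintype.card (Z ⧸ S2) := by
    rw [← htot]
    push_cast
    exact dvd_sum fun ψ _ => hdiv ψ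
  rw [← Nat.cast_mul, Int.natCast_dvd_natCast, hz, pow_add] at hd2
  exact (Nat.le_of_dvd Fintype.card_pos (Nat.dvd_of_mul_dvd_mul_left (by positivity) hd2)).trans hQ

/-- A `p`-automorphism whose `p`-th power fixes the involutions has order at most `p`. -/
theorem pow_prime_eq_one (hT : IsPGroup 2 T) {V : Subgroup T}
    (hinv : ∀ x : T, x * x = 1 ↔ x ∈ V) {p n : ℕ}
    (hp : p.Prime) (hn : 2 ≤ n) (hpn : p + 1 = 2 ^ n) (hV : Nat.card V = 2 ^ n) (ξ : MulAut T)
    {a : ℕ} (ha : orderOf ξ = p ^ a) (hξV : ∀ v ∈ V, (ξ ^ p) v = v) : ξ ^ p = 1 := by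
  classical
  haveI : Fact (Nat.Prime 2) := ⟨Nat.prime_two⟩
  haveI := Fact.mk hp
  have hp3 : 3 ≤ p := by
    have : 2 ^ 2 ≤ 2 ^ n := Nat.pow_le_pow_right two_pos hn
    omega
  by_contra hne
  have ha2 : 2 ≤ a := by
    by_contra h
    exact hne (orderOf_dvd_iff_pow_eq_one.1 (ha ▸ (by
      rw [show p = p ^ 1 from (pow_one p).symm, ← pow_mul]; exact pow_dvd_pow p (by omega))))
  obtain ⟨b, rfl⟩ : ∃ b, a = b + 2 := ⟨a - 2, by omega⟩
  set β := ξ ^ p ^ (b + 1) with hβ
  have hβV : ∀ v ∈ V, β v = v := by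
    intro v hv
    rw [hβ, pow_succ', pow_mul]
    generalize p ^ b = k
    induction k with
    | zero => simp
    | succ k ih => rw [pow_succ, MulAut.mul_apply, hξV v hv, ih]
  have hβ1 : β ≠ 1 := fun h => by
    have := orderOf_dvd_of_pow_eq_one h
    rw [ha, Nat.pow_dvd_pow_iff_le_right hp.one_lt] at this
    omega
  have hβp : β ^ p = 1 := by
    rw [hβ, ← pow_mul, ← pow_succ, ← ha, pow_orderOf_eq_one]
  let T0 : Subgroup T :=
    { carrier := {t | β t = t}
      one_mem' := map_one β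
      mul_mem' := fun {x y} hx hy => by
        change β (x * y) = x * y
        rw [map_mul, show β x = x from hx, show β y = y from hy]
      inv_mem' := fun {x} hx => by change β x⁻¹ = x⁻¹; rw [map_inv, show β x = x from hx] }
  have hT0 : T0 < ⊤ := lt_top_iff_ne_top.2 fun h => hβ1 (MulEquiv.ext fun t => by
    rw [MulAut.one_apply]; exact (show t ∈ T0 from h ▸ Subgroup.mem_top t))
  haveI := hT.isNilpotent
  have hlt := (Group.normalizerCondition_of_isNilpotent (G := T)) T0 hT0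
  set Nz := normalizer (T0 : Set T) with hNz
  haveI hT0n : (T0.subgroupOf Nz).Normal := Subgroup.normal_subgroupOf_of_le_normalizer le_rfl
  obtain ⟨w, -, hwA, hw2, hwg⟩ := Cfsg.Agent.Fus.Suzuki.exists_step (hT.to_subgroup Nz)
    (A := T0.subgroupOf Nz) (N := ⊤) (lt_top_iff_ne_top.2 fun h =>
      hlt.not_ge (Subgroup.subgroupOf_eq_top.1 h))
  -- elements of order two modulo `T0`, central modulo `T0` in the normaliser
  let U : Subgroup T :=
    { carrier := {u | u ∈ Nz ∧ u * u ∈ T0 ∧ ∀ g ∈ Nz, cm u g ∈ T0}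
      one_mem' := ⟨Nz.one_mem, by simp, fun g _ => by simp [cm]⟩
      mul_mem' := by
        rintro x y ⟨hxN, hx2, hxg⟩ ⟨hyN, hy2, hyg⟩
        refine ⟨Nz.mul_mem hxN hyN, ?_, fun g hg => ?_⟩
        · rw [show x * y * (x * y) = x * cm y x * x⁻¹ * (x * x) * (y * y) by simp only [cm]; group]
          exact T0.mul_mem (T0.mul_mem ((Subgroup.mem_normalizer_iff.1 hxN _).1 (hyg x hxN)) hx2) hy2
        · rw [show cm (x * y) g = x * cm y g * x⁻¹ * cm x g by simp only [cm]; group]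
          exact T0.mul_mem ((Subgroup.mem_normalizer_iff.1 hxN _).1 (hyg g hg)) (hxg g hg)
      inv_mem' := by
        rintro x ⟨hxN, hx2, hxg⟩
        refine ⟨Nz.inv_mem hxN, ?_, fun g hg => ?_⟩
        · rw [show x⁻¹ * x⁻¹ = (x * x)⁻¹ by group]; exact T0.inv_mem hx2
        · rw [show cm x⁻¹ g = x⁻¹ * (cm x g)⁻¹ * x by simp only [cm]; group]
          have := (Subgroup.mem_normalizer_iff.1 (Nz.inv_mem hxN) _).1 (T0.inv_mem (hxg g hg))
          simpa using this }
  have hwU : (w : T) ∈ U := ⟨w.2, hw2, fun g hg => hwg ⟨g, hg⟩⟩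
  set X : Subgroup T := U ⊓ centralizer (T0 : Set T) with hXdef
  have hfix : ∀ u, (∀ c, β u = u * c → c ∈ T0 → β u = u) := by
    intro u c hu hc
    have hcf : β c = c := hc
    have hit : ∀ k : ℕ, (β ^ k) u = u * c ^ k := by
      intro k
      induction k with
      | zero => simp
      | succ k ih => rw [pow_succ', MulAut.mul_apply, ih, map_mul, map_pow, hu, hcf, pow_succ', mul_assoc]
    have h1 := hit p
    rw [hβp, MulAut.one_apply, eq_comm, mul_eq_left] at h1
    obtain ⟨k, hk⟩ := hT c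
    have : orderOf c ∣ Nat.gcd p (2 ^ k) :=
      Nat.dvd_gcd (orderOf_dvd_of_pow_eq_one h1) (orderOf_dvd_of_pow_eq_one hk)
    rw [Nat.Coprime.gcd_eq_one (Nat.Coprime.pow_right k ((Nat.coprime_primes hp Nat.prime_two).2
      (by omega))), Nat.dvd_one, orderOf_eq_one_iff] at this
    rw [hu, this, mul_one]
  -- `β` commutes with `ξ`
  have hcomm : ∀ t, β (ξ t) = ξ (β t) := fun t => by
    rw [← MulAut.mul_apply, ← MulAut.mul_apply, hβ, ← pow_succ, ← pow_succ']
  have hinvT0 : ∀ t, ξ t ∈ T0 ↔ t ∈ T0 := fun t => by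
    change β (ξ t) = ξ t ↔ β t = t
    rw [hcomm, ξ.injective.eq_iff]
  have hinvNz : ∀ t, t ∈ Nz → ξ t ∈ Nz := by
    intro t ht
    rw [hNz, Subgroup.mem_normalizer_iff] at ht ⊢
    intro x
    obtain ⟨y, rfl⟩ := ξ.surjective x
    rw [← map_inv, ← map_mul, ← map_mul, hinvT0, hinvT0]
    exact ht y
  have hξX : ∀ x ∈ X, ξ x ∈ X := by
    rintro x ⟨⟨hxN, hx2, hxg⟩, hxC⟩
    refine ⟨⟨hinvNz x hxN, by rw [← map_mul, hinvT0]; exact hx2, fun g hg => ?_⟩, ?_⟩
    · obtain ⟨g', rfl⟩ := ξ.surjective g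
      rw [show cm (ξ x) (ξ g') = ξ (cm x g') by simp [cm], hinvT0]
      refine hxg g' ?_
      rw [hNz, Subgroup.mem_normalizer_iff] at hg ⊢
      intro y
      have := hg (ξ y)
      rwa [← map_inv, ← map_mul, ← map_mul, hinvT0, hinvT0] at this
    · refine mem_centralizer_iff.2 fun y hy => ?_
      obtain ⟨y', rfl⟩ := ξ.surjective y
      rw [← map_mul, ← map_mul, mem_centralizer_iff.1 hxC y' ((hinvT0 y').1 hy)]
  have hnot : ¬ X ≤ T0 := by
    intro hle
    refine hwA (show (w : T) ∈ T0 from hfix w ((w : T)⁻¹ * β w) (by group) ?_)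
    refine hle ⟨U.mul_mem (U.inv_mem hwU) ?_, ?_⟩
    · obtain ⟨hwN, hw2', hwg'⟩ := hwU
      have hN : ∀ g ∈ Nz, β g ∈ Nz := by
        intro g hg
        rw [hβ]
        generalize p ^ (b + 1) = k
        induction k with
        | zero => simpa using hg
        | succ k ih => rw [pow_succ', MulAut.mul_apply]; exact hinvNz _ ih
      have hT0β : ∀ t, β t ∈ T0 ↔ t ∈ T0 := fun t => by
        change β (β t) = β t ↔ β t = t
        rw [β.injective.eq_iff]
      refine ⟨hN _ hwN, by rw [← map_mul, hT0β]; exact hw2', fun g hg => ?_⟩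
      obtain ⟨g', rfl⟩ := β.surjective g
      rw [show cm (β w) (β g') = β (cm w g') by simp [cm], hT0β]
      refine hwg' g' ?_
      rw [hNz, Subgroup.mem_normalizer_iff] at hg ⊢
      intro y
      have := hg (β y)
      rwa [← map_inv, ← map_mul, ← map_mul, hT0β, hT0β] at this
    · refine mem_centralizer_iff.2 fun t ht => ?_
      have h1 : (w : T) * t * (w : T)⁻¹ ∈ T0 := (Subgroup.mem_normalizer_iff.1 w.2 t).1 ht
      have h2 : β ((w : T) * t * (w : T)⁻¹) = (w : T) * t * (w : T)⁻¹ := h1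
      rw [map_mul, map_mul, map_inv, show β t = t from ht] at h2
      calc t * ((w : T)⁻¹ * β w)
          = (w : T)⁻¹ * ((w : T) * t * (w : T)⁻¹) * β w := by group
        _ = (w : T)⁻¹ * (β w * t * (β w)⁻¹) * β w := by rw [h2]
        _ = (w : T)⁻¹ * β w * t := by group
  -- the count on `X`
  set Z : Subgroup X := T0.subgroupOf X with hZdef
  have hzc : ∀ z ∈ Z, ∀ x : X, x * z = z * x := fun z hz x =>
    Subtype.ext (mem_centralizer_iff.1 x.2.2 z hz).symm
  obtain ⟨dX, hdX⟩ := IsPGroup.iff_card.1 (hT.to_subgroup X)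
  obtain ⟨dZ, hdZ⟩ := IsPGroup.iff_card.1 ((hT.to_subgroup X).to_subgroup Z)
  have hle : dZ < dX := by
    have h1 : Nat.card Z < Nat.card X := by
      refine lt_of_le_of_ne (Subgroup.card_le_card_group Z) fun e => hnot ?_
      exact Subgroup.subgroupOf_eq_top.1 (Subgroup.eq_top_of_card_eq Z e)
    rw [hdX, hdZ] at h1
    exact (Nat.pow_lt_pow_iff_right one_lt_two).1 h1
  obtain ⟨d, rfl⟩ : ∃ d, dX = dZ + d := ⟨dX - dZ, by omega⟩
  have hcount : p ^ 2 ∣ 2 ^ d - 1 := by
    -- the cyclic group of `ξ` acts freely on the elements of `X` outside `T0`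
    let e : X ≃ X :=
      Equiv.ofBijective (fun x => ⟨ξ x, hξX x x.2⟩)
        (Finite.injective_iff_bijective.1 fun x y h =>
          Subtype.ext (ξ.injective (congrArg Subtype.val h)))
    let σ : Equiv.Perm {x : X // x ∉ Z} := e.subtypeEquiv fun x => not_congr (hinvT0 x).symm
    have hpow : ∀ (k : ℕ) (y : {x : X // x ∉ Z}), (((σ ^ k) y).1 : T) = (ξ ^ k) (y.1 : T) := by
      intro k y
      induction k with
      | zero => simp
      | succ k ih =>
        rw [pow_succ', pow_succ', Equiv.Perm.mul_apply, MulAut.mul_apply, ← ih]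
        rfl
    have hσ : σ ^ p ^ (b + 2) = 1 := Equiv.ext fun y => Subtype.ext (Subtype.ext (by
      rw [hpow, ← ha, pow_orderOf_eq_one]; rfl))
    have hstab : ∀ y, Function.minimalPeriod σ y = p ^ (b + 2) := by
      intro y
      refine Function.minimalPeriod_eq_prime_pow ?_ ?_
      · intro hper
        have := congrArg (fun z : {x : X // x ∉ Z} => (z.1 : T)) hper
        simp only [← Equiv.Perm.coe_pow, hpow] at this
        exact y.2 (show β (y.1 : T) = (y.1 : T) from this)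
      · change (σ^[p ^ (b + 2)]) y = y
        rw [← Equiv.Perm.coe_pow, hσ]; rfl
    have hdvd : p ^ (b + 2) ∣ Nat.card {x : X // x ∉ Z} := by
      classical
      haveI : Fintype {x : X // x ∉ Z} := Fintype.ofFinite _
      rw [Nat.card_congr (MulAction.selfEquivSigmaOrbits (Subgroup.zpowers σ) {x : X // x ∉ Z}),
        Nat.card_sigma]
      refine Finset.dvd_sum fun ω _ => ?_
      rw [Nat.card_congr (MulAction.orbitZPowersEquiv σ (Quotient.out ω)), Nat.card_zmod]
      exact dvd_of_eq (hstab _).symm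
    have h1 : Nat.card {x : X // x ∉ Z} = 2 ^ dZ * (2 ^ d - 1) := by
      rw [Nat.mul_sub, mul_one, ← pow_add, ← hdX, ← hdZ]
      haveI : Fintype X := Fintype.ofFinite X
      rw [Nat.card_eq_fintype_card, Fintype.card_subtype_compl, ← Nat.card_eq_fintype_card,
        ← Nat.card_eq_fintype_card]
    rw [h1] at hdvd
    exact ((Nat.Coprime.pow_left 2 (Nat.Coprime.pow_right dZ ((Nat.coprime_primes hp
      Nat.prime_two).2 (by omega))))).dvd_of_dvd_mul_left
      ((pow_dvd_pow p (by omega)).trans hdvd)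
  have hd3 := three_mul_le_of_sq_dvd hp hp3 hpn (by omega) hcount
  have hbound := card_quotient_le (hT.to_subgroup X) Z hzc
    (fun x => (x.2.1.2.1 : (x : T) * x ∈ T0))
    (fun x hx => (hβV x ((hinv x).1 (congrArg Subtype.val hx)) : β (x : T) = (x : T)))
    (q := 2 ^ n) (by
      rw [← hV]
      exact Nat.card_le_card_of_injective
        (fun z => (⟨(z.1 : T), (hinv _).1 (congrArg Subtype.val z.2)⟩ : V))
        fun x y e => Subtype.ext (Subtype.ext (congrArg Subtype.val e :)))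
    (d := d) (by rw [hdX, hdZ, pow_add])
  have := (Nat.pow_le_pow_iff_right one_lt_two).1 hbound
  omega

end Cfsg.Agent.Grp.Pyramidal
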