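import Mathlib
import Cfsg.Agent.Lib.Grp.Pyramidal.SqMap

/-!
# Character sums of the squaring map

When the automorphisms of `T` are transitive on the involutions, all fibres of the squaring map have
the same size; for `|T| = |V| ^ 3` every non-trivial character of `V` gives a non-degenerate form.
-/

set_option autoImplicit false
set_option linter.style.haveILetI false
set_option linter.unusedSectionVars false

namespace Cfsg.Agent.Grp.Pyramidal

open Subgroup Finset

variable {T : Type*} [Group T] [Finite T] {V : Subgroup T}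

/-- The automorphisms of `T` are transitive on the non-trivial elements of `V`. -/
def AutTrans (V : Subgroup T) : Prop :=
  ∀ v ∈ V, ∀ w ∈ V, v ≠ 1 → w ≠ 1 → ∃ φ : MulAut T, φ v = w

namespace SqData

variable (hV : SqData V)

include hV

theorem sum_char_sq (htr : AutTrans V) [Fintype T] {χ : V →* ℤ} (hχ : χ ≠ 1) {v₀ : V}
    (hv₀ : v₀ ≠ 1) :
    (∑ x, χ (hV.sqV x)) = (Nat.card V : ℤ) - (Nat.card {x : T // hV.sqV x = v₀} : ℤ) ∧
      Nat.card T = Nat.card V + (Nat.card V - 1) * Nat.card {x : T // hV.sqV x = v₀} := by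
  classical
  haveI : Fintype V := Fintype.ofFinite _
  set c := Nat.card {x : T // hV.sqV x = v₀}
  have hc : ∀ v : V, (univ.filter fun x => hV.sqV x = v).card = if v = 1 then Nat.card V else c := by
    intro v
    rw [← Fintype.card_subtype, ← Nat.card_eq_fintype_card]
    split_ifs with h
    · subst h
      refine Nat.card_congr (Equiv.subtypeEquivRight fun x => ?_)
      rw [← hV.invol x]
      exact Subtype.ext_iff
    · obtain ⟨φ, hφ⟩ := htr _ v.2 _ v₀.2 (fun e => h (Subtype.ext e)) fun e => hv₀ (Subtype.ext e)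
      refine Nat.card_congr (Equiv.subtypeEquiv φ.toEquiv fun x => ?_)
      change hV.sqV x = v ↔ hV.sqV (φ x) = v₀
      rw [Subtype.ext_iff, Subtype.ext_iff, ← hφ]
      change x * x = v ↔ φ x * φ x = φ v
      rw [← map_mul, φ.injective.eq_iff]
  constructor
  · rw [← sum_fiberwise univ (fun x => hV.sqV x) fun x => χ (hV.sqV x)]
    have h1 : ∀ v : V, ∑ x ∈ univ.filter (fun x => hV.sqV x = v), χ (hV.sqV x) =
        (c : ℤ) * χ v + (if v = 1 then (Nat.card V : ℤ) - c else 0) := by
      intro v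
      rw [sum_congr rfl (fun x hx => by rw [(mem_filter.1 hx).2]), sum_const, nsmul_eq_mul, hc]
      split_ifs with h
      · subst h; simp
      · simp
    rw [sum_congr rfl fun v _ => h1 v, sum_add_distrib, ← mul_sum, sum_hom_units, if_neg hχ,
      sum_ite_eq' univ (1 : V), if_pos (mem_univ _)]
    simp
  · rw [Nat.card_eq_fintype_card (α := T), ← card_univ,
      card_eq_sum_card_fiberwise (t := univ) (f := fun x => hV.sqV x) fun x _ => mem_univ _,
      sum_congr rfl fun v _ => hc v, ← add_sum_erase univ _ (mem_univ (1 : V)), if_pos rfl,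
      sum_congr rfl fun v hv => if_neg (ne_of_mem_erase hv), sum_const, card_erase_of_mem (mem_univ _),
      card_univ, smul_eq_mul, ← Nat.card_eq_fintype_card]

section Cube

variable (htr : AutTrans V) (hne : V ≠ ⊥) (h3 : Nat.card T = Nat.card V ^ 3)

include htr hne h3

theorem sum_eq [Fintype T] {χ : V →* ℤ} (hχ : χ ≠ 1) :
    (∑ x, χ (hV.sqV x)) = -(Nat.card V : ℤ) ^ 2 := by
  obtain ⟨v₀, hv, hv1⟩ : ∃ v ∈ V, v ≠ 1 := by
    by_contra h
    push Not at h
    exact hne ((Subgroup.eq_bot_iff_forall V).2 h)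
  obtain ⟨h1, h2⟩ := hV.sum_char_sq htr hχ (v₀ := ⟨v₀, hv⟩) fun e => hv1 (congrArg Subtype.val e)
  rw [h1]
  have hq : 2 ≤ Nat.card V := (Subgroup.one_lt_card_iff_ne_bot V).2 hne
  set q := Nat.card V with hqd
  set c := Nat.card {x : T // hV.sqV x = ⟨v₀, hv⟩}
  rw [h3] at h2
  have h4 : (q : ℤ) ^ 3 = q + ((q : ℤ) - 1) * c := by
    have := congrArg (fun n : ℕ => (n : ℤ)) h2
    push_cast [Nat.cast_sub (show 1 ≤ q by omega)] at this
    exact this
  have h5 : ((q : ℤ) - 1) * (c - q * (q + 1)) = 0 := by linear_combination -h4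
  rcases mul_eq_zero.1 h5 with h | h <;> [omega; linear_combination -h]

/-- Every non-trivial character of `V` gives a non-degenerate form. -/
theorem rad_eq {χ : V →* ℤ} (hχ : χ ≠ 1) {h : T} (hh : ∀ x, χ (hV.cmHom h x) = 1) : h ∈ V := by
  classical
  haveI : Fintype T := Fintype.ofFinite T
  have hpm : ∀ v : V, χ v * χ v = 1 := char_mul_self hV.mul_self_coe χ
  set f : T → ℤ := fun x => χ (hV.sqV x) with hf
  set B : T → (T →* ℤ) := fun h => χ.comp (hV.cmHom h)
  have hB : ∀ x h, f (x * h) = f x * f h * B h x := fun x h => by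
    simp only [hf, B, hV.sqV_mul, map_mul, MonoidHom.comp_apply]
  have hS : (∑ x, f x) = -(Nat.card V : ℤ) ^ 2 := hV.sum_eq htr hne h3 hχ
  have hq : (Nat.card V : ℤ) ≠ 0 := by exact_mod_cast Nat.card_pos.ne'
  have hrad : ∀ r, B r = 1 → f r = 1 := by
    intro r hr
    have h1 : (∑ x, f x) = f r * ∑ x, f x := by
      conv_lhs => rw [← Equiv.sum_comp (Equiv.mulRight r)]
      rw [mul_sum]
      refine sum_congr rfl fun x _ => ?_
      rw [Equiv.coe_mulRight, hB, hr, MonoidHom.one_apply, mul_one, mul_comm]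
    rw [hS] at h1
    have h2 : (Nat.card V : ℤ) ^ 2 * (f r - 1) = 0 := by linear_combination h1
    rcases mul_eq_zero.1 h2 with h3' | h3'
    · exact absurd h3' (pow_ne_zero _ hq)
    · linear_combination h3'
  have key := sum_mul_sum_eq f B (fun x => hpm _) hB
  rw [hS, sum_congr rfl fun r hr => hrad r (mem_filter.1 hr).2, sum_const, nsmul_eq_mul, mul_one,
    ← Nat.card_eq_fintype_card, h3] at key
  push_cast at key
  have h2 : (Nat.card V : ℤ) ^ 3 * ((univ.filter fun r => B r = 1).card - Nat.card V) = 0 := by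
    linear_combination -key
  have h6 : (univ.filter fun r => B r = 1).card = Nat.card V := by
    rcases mul_eq_zero.1 h2 with h3' | h3'
    · exact absurd h3' (pow_ne_zero _ hq)
    · omega
  have hsub : univ.filter (fun r => r ∈ V) ⊆ univ.filter fun r => B r = 1 := fun r hr => by
    refine mem_filter.2 ⟨mem_univ _, MonoidHom.ext fun x => ?_⟩
    simp [B, hV.cmHom_of_mem (mem_filter.1 hr).2]
  have heq := eq_of_subset_of_card_le hsub (by
    rw [h6, ← Fintype.card_subtype, ← Nat.card_eq_fintype_card])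
  have hm : h ∈ univ.filter fun r => B r = 1 := mem_filter.2 ⟨mem_univ _, MonoidHom.ext hh⟩
  rw [← heq] at hm
  exact (mem_filter.1 hm).2

/-- Commutation with an element outside `V` has a kernel of order `|V| ^ 2`. -/
theorem card_cm_ker {d : T} (hd : d ∉ V) : Nat.card (hV.cmHom d).ker = Nat.card V ^ 2 := by
  letI : CommGroup V := hV.commGroupV
  have hr : (hV.cmHom d).range = ⊤ := by
    by_contra hr
    obtain ⟨χ, hχ, h1⟩ := exists_char hV.mul_self_coe hr
    exact hd (hV.rad_eq htr hne h3 hχ fun x => h1 _ ⟨x, rfl⟩)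
  have h1 := Subgroup.index_mul_card (hV.cmHom d).ker
  rw [Subgroup.index, Nat.card_congr (QuotientGroup.quotientKerEquivRange _).toEquiv, hr,
    Subgroup.card_top, h3, pow_succ' _ 2] at h1
  exact mul_left_cancel₀ Nat.card_pos.ne' h1

/-- An automorphism of odd order centralising `V` and some coset outside `V` centralises `T / V`. -/
theorem semiregular (y : MulAut T) (hodd : Odd (orderOf y)) (hyV : ∀ v ∈ V, y v = v) {x : T}
    (hx : x ∉ V) (hyx : x⁻¹ * y x ∈ V) (t : T) : t⁻¹ * y t ∈ V := by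
  haveI := hV.normal
  set δ := hV.delta y
  set U := δ.ker with hU
  set D := δ.range.comap (QuotientGroup.mk' V) with hD
  have hxU : x ∈ U := (hV.mem_ker_delta y x).2 hyx
  have hperp : ∀ u ∈ U, ∀ d ∈ D, hV.cmHom u d = 1 := by
    rintro u hu d ⟨s, hs⟩
    rw [hV.delta_apply, QuotientGroup.mk'_apply, QuotientGroup.eq] at hs
    have e : d = s⁻¹ * y s * ((s⁻¹ * y s)⁻¹ * d) := by group
    rw [e, map_mul, hV.cmHom_mem_right u hs, mul_one, map_mul, map_inv]
    refine inv_mul_eq_one.2 (Subtype.ext ?_)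
    obtain ⟨w, hw, hue⟩ : ∃ w ∈ V, y u = u * w :=
      ⟨u⁻¹ * y u, (hV.mem_ker_delta y u).1 hu, by group⟩
    rw [← hyV _ (hV.cmHom u s).2, hV.coe_cmHom, hV.coe_cmHom]
    simp only [map_mul, map_inv, hue, mul_inv_rev]
    rw [show u * w * y s * (w⁻¹ * u⁻¹) = u * (w * y s * w⁻¹) * u⁻¹ by group,
      ← hV.central w hw (y s), mul_inv_cancel_right]
  by_contra ht
  have hDV : ∃ d ∈ D, d ∉ V := ⟨t⁻¹ * y t, ⟨t, rfl⟩, ht⟩
  obtain ⟨d, hdD, hdV⟩ := hDV
  have hDx : D ≤ (hV.cmHom x).ker := fun e he => hperp x hxU e he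
  have hUd : U ≤ (hV.cmHom d).ker := fun u hu => hV.cmHom_swap _ _ (hperp u hu d hdD)
  have hprod := hV.card_ker_mul y
  have cU := (Subgroup.card_le_of_le hUd).trans_eq (hV.card_cm_ker htr hne h3 hdV)
  have cD := (Subgroup.card_le_of_le hDx).trans_eq (hV.card_cm_ker htr hne h3 hx)
  rw [← hU, ← hD, h3] at hprod
  have hUeq : U = (hV.cmHom d).ker := by
    refine Subgroup.eq_of_le_of_card_ge hUd ?_
    rw [hV.card_cm_ker htr hne h3 hdV]
    by_contra hlt
    rw [not_le] at hlt
    have h7 : Nat.card U * Nat.card D < Nat.card V ^ 2 * Nat.card V ^ 2 :=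
      (Nat.mul_le_mul_left _ cD).trans_lt ((Nat.mul_lt_mul_right (pow_pos Nat.card_pos 2)).2 hlt)
    rw [hprod] at h7
    exact absurd h7 (by rw [← pow_add, ← pow_succ']; exact lt_irrefl _)
  have hdU : d⁻¹ * y d ∈ V :=
    (hV.mem_ker_delta y d).1 (show d ∈ U by rw [hUeq]; exact hV.cmHom_self d)
  obtain ⟨s, hs⟩ := hdD
  rw [hV.delta_apply, QuotientGroup.mk'_apply] at hs
  have hys : (QuotientGroup.mk (y s) : T ⧸ V) = QuotientGroup.mk (s * d) := by
    rw [QuotientGroup.mk_mul, ← hs, ← QuotientGroup.mk_mul, mul_inv_cancel_left]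
  have hiter : ∀ n : ℕ, (QuotientGroup.mk ((y ^ n) s) : T ⧸ V) = QuotientGroup.mk (s * d ^ n) := by
    intro n
    induction n with
    | zero => simp
    | succ n ih =>
      rw [QuotientGroup.eq] at ih
      have hs' : (QuotientGroup.mk ((y ^ (n + 1)) s) : T ⧸ V) = QuotientGroup.mk (y (s * d ^ n)) := by
        rw [QuotientGroup.eq, pow_succ', MulAut.mul_apply, ← map_inv, ← map_mul]
        exact hV.fix_V y ih
      rw [hs', map_mul, map_pow, QuotientGroup.mk_mul, hys, QuotientGroup.mk_pow,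
        ← QuotientGroup.eq.2 hdU, ← QuotientGroup.mk_pow, ← QuotientGroup.mk_mul, mul_assoc,
        ← pow_succ']
  obtain ⟨m, hm⟩ := hodd
  have h8 := hiter (orderOf y)
  rw [pow_orderOf_eq_one, MulAut.one_apply, QuotientGroup.eq, inv_mul_cancel_left, hm,
    pow_succ, pow_mul] at h8
  have h9 : (d ^ 2) ^ m ∈ V := V.pow_mem (by rw [pow_two]; exact hV.sq d) m
  exact hdV ((V.mul_mem_cancel_left h9).1 h8)

/-- No automorphism moving `V` is an involution on `T / V`. -/
theorem false_of_involutive (φ : MulAut T) (h2 : ∀ t, t⁻¹ * φ (φ t) ∈ V) {v₁ : T} (hv₁ : v₁ ∈ V)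
    (hne₁ : φ v₁ ≠ v₁) : False := by
  classical
  haveI : Fintype T := Fintype.ofFinite T
  haveI := hV.normal
  letI : CommGroup V := hV.commGroupV
  let Fix : Subgroup V :=
    { carrier := {v | φ v = v}
      one_mem' := map_one φ
      mul_mem' := fun {a b} ha hb => by
        change φ ((a : T) * b) = a * b
        rw [map_mul, show φ a = a from ha, show φ b = b from hb]
      inv_mem' := fun {a} ha => by
        change φ ((a : T)⁻¹) = (a : T)⁻¹
        rw [map_inv, show φ a = a from ha] }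
  obtain ⟨χ, hχ, hFix⟩ := exists_char hV.mul_self_coe (U := Fix) fun e =>
    hne₁ (show (⟨v₁, hv₁⟩ : V) ∈ Fix from e ▸ Subgroup.mem_top _)
  set δ := hV.delta φ
  set F := δ.ker with hF
  have hFsq : ∀ x ∈ F, χ (hV.sqV x) = 1 := by
    intro x hx
    refine hFix _ ?_
    change φ (x * x) = x * x
    have e : φ x = x * (x⁻¹ * φ x) := by group
    rw [map_mul, e, hV.sq_mul x ((hV.mem_ker_delta φ x).1 hx)]
  have hFcm : ∀ x ∈ F, ∀ h ∈ F, χ (hV.cmHom h x) = 1 := by
    intro x hx h hh
    have := congrArg χ (hV.sqV_mul x h)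
    rw [map_mul, map_mul, hFsq x hx, hFsq h hh, hFsq _ (F.mul_mem hx hh)] at this
    simpa using this.symm
  -- the range of `δ` is fixed
  have hDF : δ.range.comap (QuotientGroup.mk' V) ≤ F := by
    rintro d ⟨s, hs⟩
    rw [hV.delta_apply, QuotientGroup.mk'_apply, QuotientGroup.eq] at hs
    rw [show d = s⁻¹ * φ s * ((s⁻¹ * φ s)⁻¹ * d) by group]
    refine F.mul_mem ((hV.mem_ker_delta φ _).2 ?_) ((hV.mem_ker_delta φ _).2
      (V.mul_mem (V.inv_mem hs) (hV.fix_V φ hs)))
    rw [map_mul, map_inv]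
    have h5 := h2 s
    rw [show (s⁻¹ * φ s)⁻¹ * ((φ s)⁻¹ * φ (φ s)) =
      ((φ s)⁻¹ * s * ((φ s)⁻¹ * s)) * (s⁻¹ * φ (φ s)) by group]
    exact V.mul_mem (hV.sq _) h5
  set q := Nat.card V with hqd
  have hq : 0 < q := Nat.card_pos
  have hF1 : q ^ 2 ≤ Nat.card F := by
    have h6 := hV.card_ker_mul φ
    have h7 := (Nat.mul_le_mul_left (Nat.card F) (Subgroup.card_le_of_le hDF))
    rw [h6, h3, ← hqd, ← pow_succ', ← pow_two, show (3 + 1 : ℕ) = 2 * 2 from rfl, pow_mul] at h7
    exact (Nat.pow_le_pow_iff_left (by norm_num)).1 h7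
  -- the orthogonal group of `F`
  set P := univ.filter fun x : T => ∀ h ∈ F, χ (hV.cmHom x h) = 1
  have hsumF : ∀ x, (∑ h : F, χ (hV.cmHom x h)) = if x ∈ P then (Nat.card F : ℤ) else 0 := by
    intro x
    rw [show (∑ h : F, χ (hV.cmHom x h)) = ∑ h : F, ((χ.comp (hV.cmHom x)).comp F.subtype) h from rfl,
      sum_hom_units]
    have hiff : (χ.comp (hV.cmHom x)).comp F.subtype = 1 ↔ x ∈ P := by
      simp [P, MonoidHom.ext_iff]
    split_ifs with ha hb hc <;> simp_all [Nat.card_eq_fintype_card]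
  have hcnt : P.card * Nat.card F = q ^ 4 := by
    have h1 : (∑ x, ∑ h : F, χ (hV.cmHom x h)) = (P.card : ℤ) * Nat.card F := by
      rw [sum_congr rfl fun x _ => hsumF x, sum_ite, sum_const_zero, add_zero, sum_const,
        nsmul_eq_mul, filter_univ_mem]
    have hsw : ∀ x h : T, χ (hV.cmHom x h) = χ (hV.cmHom h x) := by
      intro x h
      rw [show hV.cmHom x h = (hV.cmHom h x)⁻¹ from Subtype.ext (by
        rw [InvMemClass.coe_inv, hV.coe_cmHom, hV.coe_cmHom]; group),
        inv_eq_of_mul_eq_one_right (hV.mul_self_coe _)]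
    have h5 : ∀ h : F, (∑ x, χ (hV.cmHom x h)) = if (h : T) ∈ V then (Nat.card T : ℤ) else 0 := by
      intro h
      rw [sum_congr rfl fun x _ => hsw x h,
        show (∑ x, χ (hV.cmHom h x)) = ∑ x, (χ.comp (hV.cmHom h)) x from rfl, sum_hom_units]
      by_cases hh : (h : T) ∈ V
      · rw [if_pos hh, if_pos (MonoidHom.ext fun x => by simp [hV.cmHom_of_mem hh]),
          Nat.card_eq_fintype_card]
      · rw [if_neg hh, if_neg fun e => hh (hV.rad_eq htr hne h3 hχ fun x => DFunLike.congr_fun e x)]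
        rfl
    rw [sum_comm, sum_congr rfl fun h _ => h5 h, sum_ite, sum_const_zero, add_zero, sum_const,
      nsmul_eq_mul, h3] at h1
    have hVF : (univ.filter fun h : F => (h : T) ∈ V).card = q := by
      rw [← Fintype.card_subtype, ← Nat.card_eq_fintype_card]
      exact Nat.card_congr
        { toFun := fun h => ⟨h.1.1, h.2⟩
          invFun := fun v => ⟨⟨v.1, (hV.mem_ker_delta φ v).2
            (V.mul_mem (V.inv_mem v.2) (hV.fix_V φ v.2))⟩, v.2⟩
          left_inv := fun _ => rfl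
          right_inv := fun _ => rfl }
    rw [hVF] at h1
    push_cast at h1
    zify
    rw [← h1, hqd]
    ring
  have hFP : univ.filter (fun x : T => x ∈ F) ⊆ P := fun x hx =>
    mem_filter.2 ⟨mem_univ _, fun h hh => hFcm h hh x (mem_filter.1 hx).2⟩
  have hFc : (univ.filter fun x : T => x ∈ F).card = Nat.card F := by
    rw [← Fintype.card_subtype, ← Nat.card_eq_fintype_card]
  have hPF : P.card ≤ Nat.card F := by
    by_contra hlt
    rw [not_le] at hlt
    have := Nat.mul_le_mul hF1 hF1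
    rw [← pow_add, ← hcnt] at this
    exact absurd ((Nat.mul_lt_mul_right Nat.card_pos).2 hlt) (not_lt.2 this)
  have hPeq := eq_of_subset_of_card_le hFP (hPF.trans_eq hFc.symm)
  have hdbl : (Nat.card F : ℤ) * (∑ x, χ (hV.sqV x)) = (Nat.card F : ℤ) * Nat.card F := by
    have h6 : ∀ h : F, (∑ x, χ (hV.sqV (x * h))) = ∑ x, χ (hV.sqV x) := fun h =>
      Equiv.sum_comp (Equiv.mulRight (h : T)) fun x => χ (hV.sqV x)
    have h7 : (∑ h : F, ∑ x, χ (hV.sqV (x * h))) = (Nat.card F : ℤ) * ∑ x, χ (hV.sqV x) := by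
      rw [sum_congr rfl fun h _ => h6 h, sum_const, card_univ, nsmul_eq_mul,
        Nat.card_eq_fintype_card]
    have hsw : ∀ x h : T, χ (hV.cmHom h x) = χ (hV.cmHom x h) := by
      intro x h
      rw [show hV.cmHom x h = (hV.cmHom h x)⁻¹ from Subtype.ext (by
        rw [InvMemClass.coe_inv, hV.coe_cmHom, hV.coe_cmHom]; group),
        inv_eq_of_mul_eq_one_right (hV.mul_self_coe _)]
    have h8 : ∀ x, (∑ h : F, χ (hV.sqV (x * h))) =
        if x ∈ univ.filter (fun x : T => x ∈ F) then (Nat.card F : ℤ) else 0 := by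
      intro x
      have e : ∀ h : F, χ (hV.sqV (x * h)) = χ (hV.sqV x) * χ (hV.cmHom x h) := fun h => by
        rw [hV.sqV_mul, map_mul, map_mul, hFsq _ h.2, mul_one, hsw]
      rw [sum_congr rfl fun h _ => e h, ← mul_sum, hsumF, ← hPeq]
      split_ifs with hx
      · rw [hFsq x (mem_filter.1 hx).2, one_mul]
      · rw [mul_zero]
    rw [← h7, sum_comm, sum_congr rfl fun x _ => h8 x, sum_ite, sum_const_zero, add_zero, sum_const,
      nsmul_eq_mul, filter_univ_mem, hFc]
  rw [hV.sum_eq htr hne h3 hχ, ← hqd] at hdbl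
  have hpos : (0 : ℤ) < Nat.card F := by exact_mod_cast Nat.card_pos
  have h9 := mul_left_cancel₀ hpos.ne' hdbl
  nlinarith [sq_nonneg (q : ℤ)]

end Cube

section Square

variable (htr : AutTrans V) (h2 : Nat.card T = Nat.card V ^ 2)

include htr h2

/-- When `|T| = |V| ^ 2` the cosets of `V` are the fibres of the squaring map. -/
theorem eq_coset_of_sq_eq {x y : T} (hxy : x * x = y * y) : x⁻¹ * y ∈ V := by
  classical
  haveI : Fintype T := Fintype.ofFinite T
  by_cases hx : x ∈ V
  · exact V.mul_mem (V.inv_mem hx) ((hV.invol y).1 (by rw [← hxy]; exact (hV.invol x).2 hx))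
  have hv₀ : hV.sqV x ≠ 1 := fun e => hx ((hV.invol x).1 (congrArg Subtype.val e))
  letI : CommGroup V := hV.commGroupV
  obtain ⟨χ, hχ, -⟩ := exists_char (Q := V) hV.mul_self_coe (U := ⊥) fun e =>
    hv₀ (Subgroup.mem_bot.1 (e ▸ Subgroup.mem_top (hV.sqV x)))
  obtain ⟨-, hc⟩ := hV.sum_char_sq htr hχ hv₀
  have hq : 2 ≤ Nat.card V := by
    haveI : Nontrivial V := nontrivial_of_ne _ _ hv₀
    exact Finite.one_lt_card
  set q := Nat.card V with hqd
  rw [h2] at hc
  have hcq : Nat.card {z : T // hV.sqV z = hV.sqV x} = q := by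
    obtain ⟨r, hr⟩ : ∃ r, q = r + 1 := ⟨q - 1, by omega⟩
    set c := Nat.card {z : T // hV.sqV z = hV.sqV x}
    rw [hr, Nat.add_sub_cancel] at hc
    have : r * (r + 1) = r * c := by nlinarith
    rw [hr]
    exact (Nat.eq_of_mul_eq_mul_left (by omega) this).symm
  let g : V → {z : T // hV.sqV z = hV.sqV x} := fun v => ⟨x * v, Subtype.ext (hV.sq_mul x v.2)⟩
  have hg : Function.Injective g := fun a b hab =>
    Subtype.ext (mul_left_cancel (congrArg Subtype.val hab))
  obtain ⟨v, hv⟩ := ((Nat.bijective_iff_injective_and_card g).2 ⟨hg, hcq.symm⟩).2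
    ⟨y, Subtype.ext hxy.symm⟩
  rw [show y = x * v from (congrArg Subtype.val hv).symm, inv_mul_cancel_left]
  exact v.2

end Square

end SqData

end Cfsg.Agent.Grp.Pyramidal
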