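import Mathlib
import Cfsg.Agent.S1137
import Cfsg.Agent.S1138
import Cfsg.Agent.Lib.Grp.Pyramidal.SqCount
import Cfsg.Agent.Lib.Grp.Pyramidal.Regular
import Cfsg.Agent.S0205

/-!
# The Sylow 2-subgroup in a group all whose involutions are central and conjugate
-/

set_option autoImplicit false
set_option linter.style.haveILetI false
set_option linter.unusedSectionVars false

namespace Cfsg.Agent.Grp.Pyramidal

open Subgroup

/-- The standing hypothesis: the involutions of `G` are the non-trivial elements of the normal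
subgroup `V` of order `2 ^ n`, they are conjugate and `p = 2 ^ n - 1` is prime. -/
structure Inv (G : Type*) [Group G] (V : Subgroup G) (p n : ℕ) : Prop where
  normal : V.Normal
  invol : ∀ x : G, x * x = 1 ↔ x ∈ V
  card : Nat.card V = 2 ^ n
  two_le : 2 ≤ n
  prime : p.Prime
  eq : p + 1 = 2 ^ n
  trans : ∀ v ∈ V, ∀ w ∈ V, v ≠ 1 → w ≠ 1 → ∃ g : G, g * v * g⁻¹ = w

variable {G : Type*} [Group G] [Finite G] {V : Subgroup G} {p n : ℕ}

namespace Inv

variable (h : Inv G V p n)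

include h

theorem three_le : 3 ≤ p := by
  have : 2 ^ 2 ≤ 2 ^ n := Nat.pow_le_pow_right two_pos h.two_le
  have := h.eq
  omega

theorem mul_comm_mem {v w : G} (hv : v ∈ V) (hw : w ∈ V) : v * w = w * v := by
  have h1 := (h.invol _).2 (V.mul_mem hv hw)
  rw [← mul_right_inj v, ← mul_left_inj w]
  calc v * (v * w) * w = v * v * (w * w) := by group
    _ = 1 := by rw [(h.invol v).2 hv, (h.invol w).2 hw, one_mul]
    _ = v * w * (v * w) := h1.symm
    _ = v * (w * v) * w := by group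

theorem card_nontrivial : Nat.card {v : G // v ∈ V ∧ v ≠ 1} = p := by
  classical
  haveI : Fintype V := Fintype.ofFinite _
  rw [Nat.card_congr (α := {v : G // v ∈ V ∧ v ≠ 1}) (β := {v : V // v ≠ 1})
    { toFun := fun v => ⟨⟨v.1, v.2.1⟩, fun e => v.2.2 (congrArg Subtype.val e)⟩
      invFun := fun v => ⟨v.1.1, v.1.2, fun e => v.2 (Subtype.ext e)⟩
      left_inv := fun _ => rfl
      right_inv := fun _ => rfl }, Nat.card_eq_fintype_card, Fintype.card_subtype_compl,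
    Fintype.card_subtype_eq, ← Nat.card_eq_fintype_card, h.card, ← h.eq]
  omega

theorem ne_bot : V ≠ ⊥ := fun e => by
  have := h.card
  rw [e, Subgroup.card_bot] at this
  have := Nat.one_lt_two_pow (n := n) (by have := h.two_le; omega)
  omega

theorem exists_involution : ∃ v ∈ V, v ≠ 1 := by
  by_contra hc
  push Not at hc
  exact h.ne_bot ((Subgroup.eq_bot_iff_forall V).2 hc)

theorem exists_other {v : G} (hv : v ∈ V) : ∃ w ∈ V, w ≠ 1 ∧ w ≠ v := by
  classical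
  by_contra hc
  push Not at hc
  have h1 : Nat.card {v : G // v ∈ V ∧ v ≠ 1} ≤ 1 := by
    refine Finite.card_le_one_iff_subsingleton.2 ⟨fun a b => Subtype.ext ?_⟩
    rw [hc a.1 a.2.1 a.2.2, hc b.1 b.2.1 b.2.2]
  rw [h.card_nontrivial] at h1
  have := h.three_le
  omega

/-- A transitive subgroup contains an element of `p`-power order transitive on the involutions. -/
theorem exists_cycle {N : Subgroup G}
    (hN : ∀ v ∈ V, ∀ w ∈ V, v ≠ 1 → w ≠ 1 → ∃ g ∈ N, g * v * g⁻¹ = w) :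
    ∃ g ∈ N, (∃ a, orderOf g = p ^ a) ∧ (∀ v ∈ V, g ^ p * v * (g ^ p)⁻¹ = v) ∧
      ∀ v ∈ V, ∀ w ∈ V, v ≠ 1 → w ≠ 1 → ∃ i : ℕ, g ^ i * v * (g ^ i)⁻¹ = w := by
  classical
  haveI := h.normal
  haveI := Fact.mk h.prime
  set Ω := {v : G // v ∈ V ∧ v ≠ 1}
  haveI : Fintype Ω := Fintype.ofFinite Ω
  letI : MulAction N Ω :=
    { smul := fun g v => ⟨(g : G) * v.1 * (g : G)⁻¹, Subgroup.Normal.conj_mem h.normal _ v.2.1 _,
        fun e => v.2.2 (conj_eq_one_iff.1 e)⟩
      one_smul := fun v => Subtype.ext (show (1 : G) * v.1 * (1 : G)⁻¹ = v.1 by simp)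
      mul_smul := fun a b v => Subtype.ext (show ((a : G) * b) * v.1 * ((a : G) * b)⁻¹ =
        (a : G) * ((b : G) * v.1 * (b : G)⁻¹) * (a : G)⁻¹ by group) }
  set φ := MulAction.toPermHom N Ω
  haveI : MulAction.IsPretransitive φ.range Ω := ⟨fun a b => by
    obtain ⟨g, hg, e⟩ := hN a.1 a.2.1 b.1 b.2.1 a.2.2 b.2.2
    exact ⟨⟨φ ⟨g, hg⟩, ⟨_, rfl⟩⟩, Subtype.ext e⟩⟩
  obtain ⟨v₀, hv₀, hv₀1⟩ := h.exists_involution
  have hdvd : p ∣ Nat.card φ.range := by
    have := MulAction.index_stabilizer_of_transitive φ.range (⟨v₀, hv₀, hv₀1⟩ : Ω)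
    rw [h.card_nontrivial] at this
    exact this ▸ Subgroup.index_dvd_card _
  obtain ⟨⟨σ, y, hy⟩, hσ⟩ := exists_prime_orderOf_dvd_card' p hdvd
  rw [← Subgroup.orderOf_coe] at hσ
  set m := orderOf y / p ^ (orderOf y).factorization p
  have hm : ¬ p ∣ m := Nat.not_dvd_ordCompl h.prime (orderOf_pos y).ne'
  have hσm : orderOf (σ ^ m) = p := by
    rw [orderOf_pow, hσ, Nat.Coprime.gcd_eq_one ((h.prime.coprime_iff_not_dvd).2 hm), Nat.div_one]
  have hcard : Fintype.card Ω = p := by rw [← Nat.card_eq_fintype_card, h.card_nontrivial]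
  have hcyc : (σ ^ m).IsCycle :=
    Equiv.Perm.isCycle_of_prime_order'' (hcard ▸ h.prime) (hσm.trans hcard.symm)
  have hmov : ∀ a : Ω, (σ ^ m) a ≠ a := by
    intro a ha
    have hs : (σ ^ m).support = Finset.univ := by
      refine Finset.eq_univ_of_card _ ?_
      rw [← hcyc.orderOf, hσm, hcard]
    have := hs ▸ Finset.mem_univ a
    exact (Equiv.Perm.mem_support.1 this) ha
  have hact : ∀ (i : ℕ) (a : Ω), ((σ ^ m) ^ i) a =
      ((y ^ m) ^ i) • a := fun i a => by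
    rw [← hy, ← map_pow, ← map_pow]; rfl
  refine ⟨((y ^ m : N) : G), (y ^ m).2, ⟨(orderOf y).factorization p, ?_⟩, fun v hv => ?_,
    fun v hv w hw hv1 hw1 => ?_⟩
  · rw [Subgroup.orderOf_coe, orderOf_pow, Nat.gcd_eq_right (Nat.ordCompl_dvd _ _)]
    exact Nat.div_div_self (Nat.ordProj_dvd _ _) (orderOf_pos y).ne'
  · by_cases hv1 : v = 1
    · subst hv1; simp
    have e := hact p ⟨v, hv, hv1⟩
    rw [← hσm, pow_orderOf_eq_one, hσm] at e
    have := congrArg Subtype.val e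
    exact this.symm
  · obtain ⟨i, hi⟩ := hcyc.exists_pow_eq (hmov ⟨v, hv, hv1⟩) (hmov ⟨w, hw, hw1⟩)
    rw [hact] at hi
    exact ⟨i, congrArg Subtype.val hi⟩

/-- A 2-subgroup centralising `V`, normalised by a transitive element, is abelian or a Suzuki
2-group. -/
theorem two_group_cases {T : Subgroup G} (hVT : V ≤ T) (hT : IsPGroup 2 T)
    (hc : ∀ v ∈ V, ∀ t ∈ T, t * v = v * t) {g : G} (hg : g ∈ normalizer (T : Set G)) {a : ℕ}
    (ha : orderOf g = p ^ a) (hgp : ∀ v ∈ V, g ^ p * v * (g ^ p)⁻¹ = v)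
    (htr : ∀ v ∈ V, ∀ w ∈ V, v ≠ 1 → w ≠ 1 → ∃ i : ℕ, g ^ i * v * (g ^ i)⁻¹ = w) :
    (∀ x ∈ T, ∀ y ∈ T, x * y = y * x) ∨
      (SqData (V.subgroupOf T) ∧ AutTrans (V.subgroupOf T) ∧
        (Nat.card T = Nat.card V ^ 2 ∨ Nat.card T = Nat.card V ^ 3)) := by
  classical
  haveI := Fact.mk h.prime
  refine or_iff_not_imp_left.2 fun hna => ?_
  push Not at hna
  obtain ⟨x, hx, y, hy, hxy⟩ := hna
  let ψ : normalizer (T : Set G) →* MulAut T := Subgroup.normalizerMonoidHom T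
  set ξ := ψ ⟨g, hg⟩ with hξ
  have hξi : ∀ (i : ℕ) (t : T), (((ξ ^ i) t : T) : G) = g ^ i * t * (g ^ i)⁻¹ := by
    intro i t
    rw [hξ, ← map_pow]
    rfl
  have hinv : ∀ t : T, t * t = 1 ↔ t ∈ V.subgroupOf T := fun t => by
    rw [Subgroup.mem_subgroupOf, ← h.invol, Subtype.ext_iff]; rfl
  have hVT' : Nat.card (V.subgroupOf T) = Nat.card V :=
    Nat.card_congr (Subgroup.subgroupOfEquivOfLe hVT).toEquiv
  obtain ⟨b, -, hb⟩ : ∃ b ≤ a, orderOf ξ = p ^ b := (Nat.dvd_prime_pow h.prime).1 <| by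
    rw [← ha]
    exact (orderOf_map_dvd ψ (⟨g, hg⟩ : normalizer (T : Set G))).trans
      (dvd_of_eq (Subgroup.orderOf_coe (⟨g, hg⟩ : normalizer (T : Set G))).symm)
  have hξp : ξ ^ p = 1 := pow_prime_eq_one hT hinv h.prime h.two_le h.eq (hVT'.trans h.card) ξ hb
    fun v hv => Subtype.ext (by rw [hξi]; exact hgp _ hv)
  have hmove : ∀ (i : ℕ) (v : T), v ∈ V.subgroupOf T → v ≠ 1 → (ξ ^ i) v = v → ξ ^ i = 1 := by
    intro i v hv hv1 he
    by_contra hne
    have hnd : ¬ p ∣ i := fun hd => hne (by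
      obtain ⟨c, rfl⟩ := hd
      rw [pow_mul, hξp, one_pow])
    obtain ⟨j, hj⟩ := Nat.exists_mul_mod_eq_one_of_coprime
      ((h.prime.coprime_iff_not_dvd).2 hnd).symm h.prime.one_lt
    have hξ1 : ξ v = v := by
      have hfix : ∀ k : ℕ, ((ξ ^ i) ^ k) v = v := fun k => by
        induction k with
        | zero => simp
        | succ k ih => rw [pow_succ, MulAut.mul_apply, he, ih]
      have := hfix j
      rwa [← pow_mul, ← Nat.div_add_mod (i * j) p, hj.2, pow_add, pow_mul, hξp, one_pow, one_mul,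
        pow_one] at this
    obtain ⟨w, hw, hw1, hwv⟩ := h.exists_other (v := (v : G)) hv
    obtain ⟨k, hk⟩ := htr _ hv w hw (fun e => hv1 (Subtype.ext e)) hw1
    refine hwv ?_
    have e : (ξ ^ k) v = v := by
      clear hk
      induction k with
      | zero => simp
      | succ k ih => rw [pow_succ, MulAut.mul_apply, hξ1, ih]
    exact hk.symm.trans ((hξi k v).symm.trans (congrArg Subtype.val e))
  have hsz : Cfsg.IsSuzukiTwoGroup T := by
    obtain ⟨v, hv, hv1⟩ := h.exists_involution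
    obtain ⟨w, hw, hw1, hwv⟩ := h.exists_other hv
    refine ⟨inferInstance, hT, ⟨⟨x, hx⟩, ⟨y, hy⟩, fun e => hxy (congrArg Subtype.val e)⟩,
      ⟨⟨v, hVT hv⟩, ⟨w, hVT hw⟩, fun e => hwv (congrArg Subtype.val e).symm,
        fun e => hv1 (congrArg Subtype.val e), Subtype.ext ((h.invol v).2 hv),
        fun e => hw1 (congrArg Subtype.val e), Subtype.ext ((h.invol w).2 hw)⟩,
      Subgroup.zpowers ξ, inferInstance, fun s t hs hs2 ht ht2 => ?_⟩
    obtain ⟨i, hi⟩ := htr _ ((hinv s).1 hs2) _ ((hinv t).1 ht2) (fun e => hs (Subtype.ext e))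
      fun e => ht (Subtype.ext e)
    refine ⟨⟨ξ ^ i, Subgroup.npow_mem_zpowers ξ i⟩, Subtype.ext (by rw [hξi]; exact hi), ?_⟩
    rintro ⟨k, hk⟩ hks
    obtain ⟨j, rfl⟩ := (mem_powers_iff_mem_zpowers.2 hk)
    refine Subtype.ext ?_
    change (ξ ^ j) s = t at hks
    change ξ ^ j = ξ ^ i
    obtain ⟨r, hr⟩ : ∃ r, p = r + 1 := ⟨p - 1, by have := h.prime.pos; omega⟩
    have e : ξ ^ j = ξ ^ i * ξ ^ (r * i + j) := by
      rw [← pow_add, ← add_assoc, show i + r * i = (r + 1) * i by ring, ← hr, pow_add, pow_mul, hξp,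
        one_pow, one_mul]
    have hst : (ξ ^ i) s = t := Subtype.ext (by rw [hξi]; exact hi)
    have hks' : (ξ ^ (r * i + j)) s = s := (ξ ^ i).injective (by
      rw [← MulAut.mul_apply, ← e, hks, hst])
    rw [e, hmove _ s ((hinv s).1 hs2) hs hks', mul_one]
  obtain ⟨hz1, hz2⟩ := Cfsg.Agent.S1137.result hsz
  obtain ⟨hsq, -, hcard, -⟩ := Cfsg.Agent.S1138.result hsz
  have hcen : Subgroup.center T = V.subgroupOf T := by
    ext t
    constructor
    · intro ht; exact (hinv t).1 (hz2 t ht)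
    · intro ht
      exact Subgroup.mem_center_iff.2 fun s => Subtype.ext (hc _ ht _ s.2)
  refine ⟨⟨fun v hv s => Subtype.ext (hc _ hv _ s.2), hinv, fun t => hcen ▸ hsq t⟩, ?_, ?_⟩
  · intro v hv w hw hv1 hw1
    obtain ⟨i, hi⟩ := htr _ hv _ hw (fun e => hv1 (Subtype.ext e)) fun e => hw1 (Subtype.ext e)
    exact ⟨ξ ^ i, Subtype.ext (by rw [hξi]; exact hi)⟩
  · rwa [hcen, hVT'] at hcard

end Inv

end Cfsg.Agent.Grp.Pyramidal
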