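import Mathlib
import Cfsg.Agent.Lib.Grp.Cores
import Cfsg.Agent.Lib.Invol.Sylow
import Cfsg.Agent.Lib.Grp.Pyramidal.Colour
import Cfsg.Agent.Lib.Grp.Pyramidal.TwoGroup

/-!
# The centraliser of the involutions is solvable
-/

set_option autoImplicit false
set_option linter.style.haveILetI false
set_option linter.unusedSectionVars false

namespace Cfsg.Agent.Grp.Pyramidal

open Subgroup

variable {G : Type*} [Group G] [Finite G]

/-- A non-solvable normal subgroup contains a non-solvable perfect normal subgroup. -/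
theorem exists_perfect_normal {C : Subgroup G} [C.Normal] (hC : ¬ Group.IsSolvable C) :
    ∃ R : Subgroup G, R.Normal ∧ R ≤ C ∧ ¬ Group.IsSolvable R ∧ ⁅R, R⁆ = R := by
  obtain ⟨R, ⟨hRn, hRC, hR⟩, hmin⟩ := Set.exists_min_image
    {R : Subgroup G | R.Normal ∧ R ≤ C ∧ ¬ Group.IsSolvable R} (fun R => Nat.card R)
    (Set.toFinite _) ⟨C, inferInstance, le_rfl, hC⟩
  refine ⟨R, hRn, hRC, hR, ?_⟩
  have hle : ⁅R, R⁆ ≤ R := Subgroup.commutator_le_self R
  refine Subgroup.eq_of_le_of_card_ge hle ?_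
  by_contra hlt
  rw [not_le] at hlt
  haveI := hRn
  have hs : Group.IsSolvable (⁅R, R⁆ : Subgroup G) := by
    by_contra hs
    exact hlt.not_ge (hmin _ ⟨inferInstance, hle.trans hRC, hs⟩)
  apply hR
  have e : (commutator R).map R.subtype = ⁅R, R⁆ := Subgroup.map_subtype_commutator R
  haveI : Group.IsSolvable (commutator R) :=
    Group.isSolvable_of_isSolvable_injective (f := (Subgroup.inclusion e.le).comp
      ((commutator R).equivMapOfInjective R.subtype R.subtype_injective).toMonoidHom)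
      (by rw [MonoidHom.coe_comp]; exact (Subgroup.inclusion_injective e.le).comp ((commutator R).equivMapOfInjective R.subtype R.subtype_injective).injective)
  haveI : Group.IsSolvable (R ⧸ commutator R) :=
    (inferInstance : Group.IsSolvable (Abelianization R))
  exact Group.isSolvable_of_ker_le_range (commutator R).subtype (QuotientGroup.mk' (commutator R))
    (fun x hx => ⟨⟨x, (QuotientGroup.eq_one_iff x).1 hx⟩, rfl⟩)

theorem exists_involution_of_not_solvable {R : Subgroup G} (hR : ¬ Group.IsSolvable R) :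
    ∃ t ∈ R, orderOf t = 2 :=
  Invol.exists_orderOf_two_mem (Nat.not_odd_iff_even.1 fun ho => hR (Cfsg.Agent.S0205.result ho))

variable {V : Subgroup G} {p n : ℕ}

/-- An element whose 2-part and odd part act trivially modulo a subgroup acts trivially. -/
theorem mem_of_pow_mem {Y : Type*} [Group Y] (F : Subgroup Y) {y : Y} {a b : ℕ}
    (hab : a.Coprime b) (ha : y ^ a ∈ F) (hb : y ^ b ∈ F) : y ∈ F := by
  have h1 : y ^ ((a : ℤ) * a.gcdA b + (b : ℤ) * a.gcdB b) ∈ F := by
    rw [zpow_add, zpow_mul, zpow_mul, zpow_natCast, zpow_natCast]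
    exact F.mul_mem (F.zpow_mem ha _) (F.zpow_mem hb _)
  rwa [← Nat.gcd_eq_gcd_ab, hab.gcd_eq_one, Nat.cast_one, zpow_one] at h1

theorem Inv.solvable_centralizer (h : Inv G V p n)
    (hO : ∀ K : Subgroup G, K.Normal → Odd (Nat.card K) → K = ⊥) :
    Group.IsSolvable (centralizer (V : Set G)) := by
  classical
  haveI : Fact (Nat.Prime 2) := ⟨Nat.prime_two⟩
  haveI := h.normal
  by_contra hC
  obtain ⟨L, hLn, hLC, hL, hLperf⟩ := exists_perfect_normal hC
  haveI := hLn
  haveI : Group.IsPerfect L := Subgroup.isPerfect_iff.2 hLperf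
  have hVL : V ≤ L := by
    obtain ⟨t, htL, ht⟩ := exists_involution_of_not_solvable hL
    have ht' := orderOf_eq_prime_iff.1 ht
    have htV : t ∈ V := (h.invol t).1 (by rw [← pow_two]; exact ht'.1)
    intro v hv
    by_cases hv1 : v = 1
    · subst hv1; exact L.one_mem
    obtain ⟨g, rfl⟩ := h.trans t htV v hv ht'.2 hv1
    exact hLn.conj_mem t htL g
  have hcent : ∀ v ∈ V, ∀ x ∈ L, x * v = v * x := fun v hv x hx =>
    (mem_centralizer_iff.1 (hLC hx) v hv).symm
  let TL : Sylow 2 L := default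
  set T := (TL : Subgroup L).map L.subtype with hTdef
  have hT : IsPGroup 2 T := TL.isPGroup'.map _
  have hTL : T ≤ L := map_subtype_le _
  haveI : (V.subgroupOf L).Normal := inferInstance
  have hVT : V ≤ T := by
    intro v hv
    have hle : V.subgroupOf L ≤ (TL : Subgroup L) :=
      ((IsPGroup.of_card (p := 2) h.card).comap_subtype).le_sylow_of_normal TL
    exact ⟨⟨v, hVL hv⟩, hle hv, rfl⟩
  have hTsub : T.subgroupOf L = (TL : Subgroup L) := comap_map_eq_self_of_injective L.subtype_injective _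
  -- the normaliser of `T` is transitive on the involutions
  have hfr : normalizer (T : Set G) ⊔ L = ⊤ := Sylow.normalizer_sup_eq_top TL
  have hNtr : ∀ v ∈ V, ∀ w ∈ V, v ≠ 1 → w ≠ 1 →
      ∃ g ∈ normalizer (T : Set G), g * v * g⁻¹ = w := by
    intro v hv w hw hv1 hw1
    obtain ⟨g, rfl⟩ := h.trans v hv w hw hv1 hw1
    have hg : g ∈ normalizer (T : Set G) ⊔ L := hfr ▸ mem_top g
    rw [← SetLike.mem_coe, Subgroup.mul_normal] at hg
    obtain ⟨a, ha, l, hl, rfl⟩ := hg
    refine ⟨a, ha, ?_⟩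
    rw [show a * l * v * (a * l)⁻¹ = a * (l * v * l⁻¹) * a⁻¹ by group, hcent v hv l hl,
      mul_inv_cancel_right]
  obtain ⟨g, hg, ⟨a, ha⟩, hgp, hgtr⟩ := h.exists_cycle hNtr
  rcases h.two_group_cases hVT hT (fun v hv t ht => hcent v hv t (hTL ht)) hg ha hgp hgtr with
    hab | ⟨hsd, htr, hcard⟩
  · -- abelian Sylow subgroup: transfer
    haveI : IsMulCommutative (TL : Subgroup L) := ⟨⟨fun x y => Subtype.ext (Subtype.ext
      (hab _ ⟨_, x.2, rfl⟩ _ ⟨_, y.2, rfl⟩))⟩⟩
    letI : CommGroup (TL : Subgroup L) :=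
      { (inferInstance : Group (TL : Subgroup L)) with mul_comm := mul_comm' }
    obtain ⟨v, hv, hv1⟩ := h.exists_involution
    have hcen : ∀ z : L, z * ⟨v, hVL hv⟩ = ⟨v, hVL hv⟩ * z := fun z => Subtype.ext (hcent v hv z z.2)
    have hkey : ∀ (k : ℕ) (g₀ : L), g₀⁻¹ * (⟨v, hVL hv⟩ : L) ^ k * g₀ ∈ (TL : Subgroup L) →
        g₀⁻¹ * (⟨v, hVL hv⟩ : L) ^ k * g₀ = (⟨v, hVL hv⟩ : L) ^ k := fun k g₀ _ => by
      rw [mul_assoc, ← ((show Commute g₀ (⟨v, hVL hv⟩ : L) from hcen g₀).pow_right k).eq,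
        inv_mul_cancel_left]
    have he := MonoidHom.transfer_eq_pow (MonoidHom.id (TL : Subgroup L)) ⟨v, hVL hv⟩ hkey
    have hker : (⟨v, hVL hv⟩ : L) ∈ (MonoidHom.transfer (MonoidHom.id (TL : Subgroup L))).ker :=
      (Abelianization.commutator_subset_ker _) (Group.IsPerfect.mem_commutator)
    rw [MonoidHom.mem_ker, he] at hker
    have hpow : v ^ (TL : Subgroup L).index = 1 := by
      have := congrArg (fun z : (TL : Subgroup L) => ((z : L) : G)) hker
      simpa using this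
    obtain ⟨m, hm⟩ := Nat.odd_iff.2 (Nat.two_dvd_ne_zero.1 TL.not_dvd_index)
    rw [hm, pow_succ, pow_mul, pow_two, (h.invol v).2 hv, one_pow, one_mul] at hpow
    exact hv1 hpow
  -- Suzuki 2-group
  set W := V.subgroupOf T with hWdef
  have hWc : Nat.card W = Nat.card V := Nat.card_congr (subgroupOfEquivOfLe hVT).toEquiv
  have hWne : W ≠ ⊥ := fun e => by
    have h1 := hWc
    rw [e, Subgroup.card_bot, h.card] at h1
    have := Nat.one_lt_two_pow (n := n) (by have := h.two_le; omega)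
    omega
  set VL := V.subgroupOf L
  let π : L →* L ⧸ VL := QuotientGroup.mk' VL
  have hπ : Function.Surjective π := QuotientGroup.mk'_surjective VL
  let Tb : Sylow 2 (L ⧸ VL) := TL.mapSurjective hπ
  have hTb : (Tb : Subgroup (L ⧸ VL)) = (TL : Subgroup L).map π := rfl
  have hmemT : ∀ l : L, π l ∈ (Tb : Subgroup (L ⧸ VL)) ↔ (l : G) ∈ T := by
    intro l
    rw [hTb, ← Subgroup.mem_comap, Subgroup.comap_map_eq_self (by
      rw [QuotientGroup.ker_mk']; rw [← hTsub]; exact fun x hx => hVT hx), ← hTsub]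
    rfl
  have hone : ∀ l : L, π l = 1 ↔ (l : G) ∈ V := fun l => QuotientGroup.eq_one_iff l
  have hcommb : ∀ x ∈ (Tb : Subgroup (L ⧸ VL)), ∀ y ∈ (Tb : Subgroup (L ⧸ VL)), x * y = y * x := by
    intro x hx y hy
    obtain ⟨x, rfl⟩ := hπ x
    obtain ⟨y, rfl⟩ := hπ y
    rw [← commutatorElement_eq_one_iff_mul_comm, ← map_commutatorElement, hone, commutatorElement_def]
    exact hsd.cm_mem ⟨x, (hmemT x).1 hx⟩ ⟨y, (hmemT y).1 hy⟩
  have hsqb : ∀ x ∈ (Tb : Subgroup (L ⧸ VL)), x * x = 1 := by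
    intro x hx
    obtain ⟨x, rfl⟩ := hπ x
    rw [← map_mul, hone]
    exact hsd.sq ⟨x, (hmemT x).1 hx⟩
  have hnorm : ∀ y : L, π y ∈ normalizer ((Tb : Subgroup (L ⧸ VL)) : Set (L ⧸ VL)) →
      (y : G) ∈ normalizer (T : Set G) := by
    intro y hy
    refine Subgroup.mem_normalizer_fintype fun t ht => ?_
    have := (mem_normalizer_iff.1 hy (π ⟨t, hTL ht⟩)).1 ((hmemT _).2 ht)
    rw [← map_inv, ← map_mul, ← map_mul, hmemT] at this
    exact this
  -- the elements of `N_L(T)` acting trivially modulo `V`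
  set NT := (normalizer (T : Set G)).subgroupOf L
  let ψ : NT →* MulAut T := (Subgroup.normalizerMonoidHom T).comp
    { toFun := fun y => ⟨((y : L) : G), y.2⟩
      map_one' := rfl
      map_mul' := fun _ _ => rfl }
  have hψ : ∀ (y : NT) (t : T), ((ψ y t : T) : G) = ((y : L) : G) * t * ((y : L) : G)⁻¹ :=
    fun _ _ => rfl
  have hψV : ∀ (y : NT), ∀ v ∈ W, ψ y v = v := fun y v hv => Subtype.ext (by
    rw [hψ]; change _ * (v : G) * _ = (v : G)
    rw [hcent (v : G) hv _ (y : L).2, mul_inv_cancel_right])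
  let F : Subgroup NT :=
    { carrier := {y | ∀ t : T, t⁻¹ * ψ y t ∈ W}
      one_mem' := fun t => by simp [W.one_mem]
      mul_mem' := fun {y z} hy hz t => by
        rw [map_mul, MulAut.mul_apply, show t⁻¹ * ψ y (ψ z t) =
          (t⁻¹ * ψ z t) * ((ψ z t)⁻¹ * ψ y (ψ z t)) by group]
        exact W.mul_mem (hz t) (hy _)
      inv_mem' := fun {y} hy t => by
        obtain ⟨s, rfl⟩ := (ψ y).surjective t
        rw [map_inv, MulAut.inv_apply, MulEquiv.symm_apply_apply, show (ψ y s)⁻¹ * s = (s⁻¹ * ψ y s)⁻¹ by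
          group]
        exact W.inv_mem (hy s) }
  have htwo : ∀ (y : NT) (k : ℕ), y ^ 2 ^ k = 1 → y ∈ F := by
    intro y k hk t
    have hyT : ((y : L) : G) ∈ T := by
      have hz : IsPGroup 2 (zpowers (y : L)) := by
        obtain ⟨j, -, hj⟩ := (Nat.dvd_prime_pow Nat.prime_two).1
          (orderOf_dvd_of_pow_eq_one (x := (y : L)) (n := 2 ^ k) (by rw [← SubmonoidClass.coe_pow, hk]; rfl))
        exact Invol.isPGroup_zpowers hj
      have hle : zpowers (y : L) ≤ (TL : Subgroup L) := by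
        rw [← inf_eq_left, ← hz.inf_normalizer_sylow, inf_eq_left, Subgroup.zpowers_le]
        refine Subgroup.mem_normalizer_fintype fun l hl => ?_
        have hl' : (l : G) ∈ T := ⟨l, hl, rfl⟩
        have h3 : ((y : L) * l * (y : L)⁻¹ : L) ∈ T.subgroupOf L :=
          (mem_normalizer_iff.1 y.2 _).1 hl'
        rwa [hTsub] at h3
      exact ⟨(y : L), hle (mem_zpowers _), rfl⟩
    have e : t⁻¹ * ψ y t = t⁻¹ * (⟨((y : L) : G), hyT⟩ * t * ⟨((y : L) : G), hyT⟩⁻¹) := rfl
    rw [e, show t⁻¹ * ((⟨((y : L) : G), hyT⟩ : T) * t * (⟨((y : L) : G), hyT⟩ : T)⁻¹) =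
      t⁻¹ * ⟨((y : L) : G), hyT⟩ * t⁻¹⁻¹ * (⟨((y : L) : G), hyT⟩ : T)⁻¹ by group]
    exact hsd.cm_mem _ _
  have hsplit : ∀ y : NT, (∀ k, Odd (orderOf (y ^ 2 ^ k)) → y ^ 2 ^ k ∈ F) → y ∈ F := by
    intro y hy
    set k := (orderOf y).factorization 2
    set m := orderOf y / 2 ^ k
    have hm : ¬ 2 ∣ m := Nat.not_dvd_ordCompl Nat.prime_two (orderOf_pos y).ne'
    refine mem_of_pow_mem F (a := 2 ^ k) (b := m)
      (Nat.Coprime.pow_left k (Nat.prime_two.coprime_iff_not_dvd.2 hm)) (hy k ?_)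
      (htwo _ k ?_)
    · rw [orderOf_pow, Nat.gcd_eq_right (Nat.ordProj_dvd _ _)]
      exact Nat.odd_iff.2 (Nat.two_dvd_ne_zero.1 hm)
    · rw [← pow_mul, mul_comm, Nat.ordProj_mul_ordCompl_eq_self, pow_orderOf_eq_one]
  have hcardT : Nat.card T = Nat.card W * Nat.card (Tb : Subgroup (L ⧸ VL)) := by
    let f : T →* (Tb : Subgroup (L ⧸ VL)) :=
      (π.comp (Subgroup.inclusion hTL)).codRestrict _ fun t => (hmemT _).2 t.2
    have hf : Function.Surjective f := by
      rintro ⟨x, hx⟩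
      obtain ⟨l, rfl⟩ := hπ x
      exact ⟨⟨l, (hmemT l).1 hx⟩, Subtype.ext rfl⟩
    have hker : f.ker = W := by
      ext t
      rw [MonoidHom.mem_ker, Subtype.ext_iff]
      exact hone _
    rw [← Subgroup.card_mul_index f.ker, Subgroup.index,
      Nat.card_congr (QuotientGroup.quotientKerEquivOfSurjective f hf).toEquiv, hker]
  rcases hcard with h2 | h3
  · -- order `q ^ 2`: Burnside transfer
    have hF : ∀ y : NT, y ∈ F := fun y t => hsd.eq_coset_of_sq_eq htr (h2.trans (by rw [hWc])) (by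
      rw [← map_mul, hψV y _ (hsd.sq t)])
    have hN : normalizer ((Tb : Subgroup (L ⧸ VL)) : Set (L ⧸ VL)) ≤
        centralizer ((Tb : Subgroup (L ⧸ VL)) : Set (L ⧸ VL)) := by
      intro yb hyb
      obtain ⟨y, rfl⟩ := hπ yb
      refine mem_centralizer_iff.2 fun sb hsb => ?_
      obtain ⟨s, rfl⟩ := hπ sb
      have h1 := hF ⟨y, hnorm y hyb⟩ ⟨s, (hmemT s).1 hsb⟩
      rw [eq_comm, ← commutatorElement_eq_one_iff_mul_comm, ← map_commutatorElement, hone,
        commutatorElement_def]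
      have h2 : (s : G) * ((s : G)⁻¹ * ((y : G) * s * (y : G)⁻¹)) * (s : G)⁻¹ ∈ V :=
        h.normal.conj_mem _ h1 (s : G)
      rw [show ((s : G)) * ((s : G)⁻¹ * ((y : G) * s * (y : G)⁻¹)) * (s : G)⁻¹ =
        (y : G) * s * (y : G)⁻¹ * (s : G)⁻¹ by group] at h2
      exact h2
    have hk := MonoidHom.not_dvd_card_ker_transferSylow Tb hN
    refine hk ?_
    haveI : IsMulCommutative (Tb : Subgroup (L ⧸ VL)) :=
      ⟨⟨fun x y => Subtype.ext (hcommb x x.2 y y.2)⟩⟩
    letI : CommGroup (Tb : Subgroup (L ⧸ VL)) :=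
      { (inferInstance : Group (Tb : Subgroup (L ⧸ VL))) with mul_comm := mul_comm' }
    haveI : Group.IsPerfect (L ⧸ VL) := inferInstance
    have htop : (MonoidHom.transferSylow Tb hN).ker = ⊤ :=
      top_le_iff.1 fun x _ => Abelianization.commutator_subset_ker _ Group.IsPerfect.mem_commutator
    rw [htop, Subgroup.card_top]
    refine dvd_trans ?_ (Subgroup.card_subgroup_dvd_card (Tb : Subgroup (L ⧸ VL)))
    rw [h2, hWc, pow_two] at hcardT
    rw [← Nat.eq_of_mul_eq_mul_left Nat.card_pos hcardT, h.card]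
    exact dvd_pow_self 2 (by have := h.two_le; omega)
  -- order `q ^ 3`: three colours
  have h3' : Nat.card T = Nat.card W ^ 3 := h3.trans (by rw [hWc])
  have hnil : ∀ x ∈ (Tb : Subgroup (L ⧸ VL)), x ≠ 1 →
      ∀ y ∈ normalizer ((Tb : Subgroup (L ⧸ VL)) : Set (L ⧸ VL)), y * x = x * y →
        ∀ s ∈ (Tb : Subgroup (L ⧸ VL)), y * s = s * y := by
    intro xb hxb hxb1 yb hyb hcomm sb hsb
    obtain ⟨x, rfl⟩ := hπ xb
    obtain ⟨y, rfl⟩ := hπ yb
    obtain ⟨s, rfl⟩ := hπ sb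
    set x' : T := ⟨x, (hmemT x).1 hxb⟩
    have hxW : x' ∉ W := fun hc => hxb1 ((hone x).2 hc)
    set y' : NT := ⟨y, hnorm y hyb⟩
    have hyx : x'⁻¹ * ψ y' x' ∈ W := by
      rw [← commutatorElement_eq_one_iff_mul_comm, ← map_commutatorElement, hone,
        commutatorElement_def] at hcomm
      have h2 := h.normal.conj_mem _ hcomm ((x : G)⁻¹)
      show ((x' : G))⁻¹ * ((y : G) * x' * (y : G)⁻¹) ∈ V
      simpa [mul_assoc] using h2
    have hyF : y' ∈ F := by
      refine hsplit y' fun k hk t => hsd.semiregular htr hWne h3' (ψ (y' ^ 2 ^ k))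
        (hk.of_dvd_nat (orderOf_map_dvd ψ _)) (hψV _) hxW ?_ t
      have hit : ∀ j : ℕ, x'⁻¹ * ψ (y' ^ j) x' ∈ W := by
        intro j
        induction j with
        | zero => simp [W.one_mem]
        | succ j ih =>
          rw [pow_succ, map_mul, MulAut.mul_apply, show x'⁻¹ * ψ (y' ^ j) (ψ y' x') =
            (x'⁻¹ * ψ (y' ^ j) x') * ψ (y' ^ j) (x'⁻¹ * ψ y' x') by rw [map_mul, map_inv]; group,
            hψV _ _ hyx]
          exact W.mul_mem ih hyx
      exact hit _
    have h1 := hyF ⟨s, (hmemT s).1 hsb⟩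
    rw [← commutatorElement_eq_one_iff_mul_comm, ← map_commutatorElement, hone,
      commutatorElement_def]
    have h2 : (s : G) * ((s : G)⁻¹ * ((y : G) * s * (y : G)⁻¹)) * (s : G)⁻¹ ∈ V :=
      h.normal.conj_mem _ h1 (s : G)
    rw [show ((s : G)) * ((s : G)⁻¹ * ((y : G) * s * (y : G)⁻¹)) * (s : G)⁻¹ =
      (y : G) * s * (y : G)⁻¹ * (s : G)⁻¹ by group] at h2
    exact h2
  have h8 : 8 ≤ Nat.card (Tb : Subgroup (L ⧸ VL)) := by
    rw [h3', pow_succ' _ 2] at hcardT
    rw [← Nat.eq_of_mul_eq_mul_left Nat.card_pos hcardT, hWc, h.card]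
    have : 2 ^ 2 ≤ 2 ^ n := Nat.pow_le_pow_right two_pos h.two_le
    nlinarith
  have hcore : ∀ K : Subgroup (L ⧸ VL), K.Normal → Odd (Nat.card K) → K = ⊥ := by
    intro K hK hKodd
    set K' := K.comap π with hK'
    haveI : K'.Normal := hK.comap π
    -- the odd part of the preimage
    haveI : Finite K' := inferInstance
    have hidx : ¬ 2 ∣ (VL.subgroupOf K').index := by
      let f : K' →* K := π.subgroupComap K
      have hf : Function.Surjective f := by
        rintro ⟨x, hx⟩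
        obtain ⟨l, rfl⟩ := hπ x
        exact ⟨⟨l, hx⟩, rfl⟩
      have hker : f.ker = VL.subgroupOf K' := by
        ext l
        rw [MonoidHom.mem_ker, Subtype.ext_iff, Subgroup.mem_subgroupOf]
        exact QuotientGroup.eq_one_iff _
      rw [← hker, Subgroup.index, Nat.card_congr (QuotientGroup.quotientKerEquivOfSurjective f hf).toEquiv]
      exact hKodd.not_two_dvd_nat
    have hcenK : VL.subgroupOf K' ≤ Subgroup.center K' := fun v hv =>
      Subgroup.mem_center_iff.2 fun l => Subtype.ext (Subtype.ext (hcent _ hv _ (l : L).2))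
    have hcop : (Nat.card (VL.subgroupOf K')).Coprime (VL.subgroupOf K').index := by
      obtain ⟨j, hj⟩ := IsPGroup.iff_card.1
        (((IsPGroup.of_card (p := 2) h.card).comap_subtype (K := L)).comap_subtype (K := K'))
      rw [show Nat.card (VL.subgroupOf K') = 2 ^ j from hj]
      exact Nat.Coprime.pow_left j (Nat.prime_two.coprime_iff_not_dvd.2 hidx)
    haveI : (VL.subgroupOf K').Normal := inferInstance
    obtain ⟨O, hO'⟩ := Subgroup.exists_right_complement'_of_coprime hcop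
    have hOcard : Nat.card O = (VL.subgroupOf K').index := hO'.symm.index_eq_card.symm
    have hOn : O.Normal := ⟨fun o ho g => by
      obtain ⟨⟨v, o'⟩, hvo, -⟩ := hO'.existsUnique g
      rw [← hvo]
      change (v : K') * o' * o * ((v : K') * o')⁻¹ ∈ O
      rw [show (v : K') * o' * o * ((v : K') * o')⁻¹ = (v : K') * (o' * o * (o' : K')⁻¹) * (v : K')⁻¹
        by group, ← Subgroup.mem_center_iff.1 (hcenK v.2) _, mul_inv_cancel_right]
      exact O.mul_mem (O.mul_mem o'.2 ho) (O.inv_mem o'.2)⟩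
    have hOle : O.map K'.subtype ≤ Cfsg.pPrimeCore 2 L := by
      refine Grp.le_pPrimeCore ⟨fun x hx g => ?_⟩ ?_
      · obtain ⟨o, ho, rfl⟩ := hx
        have hgo : g * (o : L) * g⁻¹ ∈ K' := (inferInstance : K'.Normal).conj_mem _ o.2 g
        refine ⟨⟨_, hgo⟩, ?_, rfl⟩
        obtain ⟨⟨v, o'⟩, hvo, -⟩ := hO'.existsUnique ⟨_, hgo⟩
        -- an element of odd order of `K'` lies in `O`
        have hodd : Odd (orderOf (⟨_, hgo⟩ : K')) := by
          rw [← Subgroup.orderOf_coe, Invol.orderOf_conj_eq, Subgroup.orderOf_coe]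
          exact (Nat.odd_iff.2 (Nat.two_dvd_ne_zero.1 (hOcard ▸ hidx))).of_dvd_nat
            (Subgroup.orderOf_dvd_natCard O ho)
        obtain ⟨m, hm⟩ := hodd
        change (v : K') * o' = _ at hvo
        have hv2 : (v : K') ^ 2 = 1 := by
          rw [pow_two]
          exact Subtype.ext (Subtype.ext ((h.invol _).2 v.2))
        have hc : Commute (v : K') (o' : K') := (Subgroup.mem_center_iff.1 (hcenK v.2) _).symm
        have h1 := pow_orderOf_eq_one (⟨_, hgo⟩ : K')
        rw [hm, ← hvo, hc.mul_pow, pow_succ (v : K'), pow_mul, hv2, one_pow, one_mul] at h1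
        have hvO : (v : K') ∈ O := by
          rw [eq_inv_of_mul_eq_one_left h1]
          exact O.inv_mem (O.pow_mem o'.2 _)
        rw [← hvo]
        exact O.mul_mem hvO o'.2
      · rw [Subgroup.card_map_of_injective K'.subtype_injective, hOcard]
        exact (Nat.prime_two.coprime_iff_not_dvd.2 hidx).symm
    have hbot : (Cfsg.pPrimeCore 2 L).map L.subtype = ⊥ := by
      refine hO _ inferInstance ?_
      rw [Subgroup.card_map_of_injective L.subtype_injective]
      exact Nat.odd_iff.2 (Nat.two_dvd_ne_zero.1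
        (Nat.prime_two.coprime_iff_not_dvd.1 (Grp.pPrimeCore_coprime (G := L) (p := 2)).symm))
    rw [Subgroup.map_eq_bot_iff_of_injective _ L.subtype_injective] at hbot
    rw [hbot, le_bot_iff, Subgroup.map_eq_bot_iff_of_injective _ K'.subtype_injective] at hOle
    rw [Subgroup.eq_bot_iff_forall]
    intro x hx
    obtain ⟨l, rfl⟩ := hπ x
    obtain ⟨⟨v, o'⟩, hvo, -⟩ := hO'.existsUnique (⟨l, hx⟩ : K')
    have ho' : (o' : K') = 1 := by
      rw [← Subgroup.mem_bot, ← hOle]; exact o'.2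
    rw [hone]
    have h1 : (v : K') = ⟨l, hx⟩ := by rw [← hvo]; simp [ho']
    have h2 := v.2
    rw [h1] at h2
    exact h2
  obtain ⟨x₀, hx₀⟩ : ∃ x : T, x ∉ W := by
    by_contra hc
    push Not at hc
    have hWtop : W = ⊤ := (Subgroup.eq_top_iff' W).2 hc
    rw [hWtop, Subgroup.card_top] at h3'
    have : 1 < Nat.card T := by
      rw [← Subgroup.card_top (G := T), ← hWtop, hWc, h.card]
      exact Nat.one_lt_two_pow (by have := h.two_le; omega)
    exact absurd h3' (Nat.ne_of_lt (by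
      calc Nat.card T = Nat.card T ^ 1 := (pow_one _).symm
        _ < Nat.card T ^ 3 := Nat.pow_lt_pow_right this (by norm_num)))
  have hv0 : ((x₀ : G)) * x₀ ∈ V := hsd.sq x₀
  have hv01 : (x₀ : G) * x₀ ≠ 1 := fun e => hx₀ ((hsd.invol x₀).1 (Subtype.ext e))
  obtain ⟨v1, hv1, hv11, hv1ne⟩ := h.exists_other hv0
  obtain ⟨c, hc, hcv⟩ := hNtr _ hv0 v1 hv1 hv01 hv11
  have hx1 : c * x₀ * c⁻¹ ∈ T := (mem_normalizer_iff.1 hc _).1 x₀.2
  have hord : ∀ z : L, (z : G) ∈ T → (z : G) * z ≠ 1 → orderOf (π z) = 2 := by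
    intro z hz hz2
    refine orderOf_eq_prime_iff.2 ⟨?_, fun e => hz2 ((h.invol _).2 ((hone z).1 e))⟩
    rw [pow_two]; exact hsqb _ ((hmemT z).2 hz)
  have hne1 : c * x₀ * c⁻¹ * (c * x₀ * c⁻¹) = v1 := by rw [← hcv]; group
  obtain ⟨d, hd⟩ := isConj_iff.1 (isConj_of_two_nilpotent Tb hcommb hsqb hnil h8 hcore
    ((Group.isPerfect_def).1 inferInstance)
    (hord ⟨x₀, hTL x₀.2⟩ x₀.2 hv01)
    (hord ⟨c * x₀ * c⁻¹, hTL hx1⟩ hx1 (by rw [hne1]; exact hv11)))
  obtain ⟨d, rfl⟩ := hπ d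
  rw [← map_inv, ← map_mul, ← map_mul, QuotientGroup.mk'_eq_mk'] at hd
  obtain ⟨z, hz, hze⟩ := hd
  have hze' : (d : G) * x₀ * (d : G)⁻¹ * (z : G) = c * x₀ * c⁻¹ := congrArg Subtype.val hze
  refine hv1ne ?_
  rw [← hne1, ← hze']
  have hzc : ∀ w : L, (w : G) * z = z * w := fun w => hcent _ hz _ w.2
  calc (d : G) * x₀ * (d : G)⁻¹ * z * ((d : G) * x₀ * (d : G)⁻¹ * z)
      = (d : G) * x₀ * (d : G)⁻¹ * (z * ((d : G) * x₀ * (d : G)⁻¹)) * z := by group
    _ = (d : G) * x₀ * (d : G)⁻¹ * ((d : G) * x₀ * (d : G)⁻¹ * z) * z := by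
        rw [show (d : G) * x₀ * (d : G)⁻¹ * z = z * ((d : G) * x₀ * (d : G)⁻¹) from
          hzc (d * ⟨x₀, hTL x₀.2⟩ * d⁻¹)]
    _ = (d : G) * ((x₀ : G) * x₀) * (d : G)⁻¹ * ((z : G) * z) := by group
    _ = (x₀ : G) * x₀ := by
        rw [(h.invol (z : G)).2 hz, mul_one, hcent _ hv0 _ d.2, mul_inv_cancel_right]

end Cfsg.Agent.Grp.Pyramidal
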