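import Mathlib

/-!
# Fixed points of automorphisms of homocyclic 2-groups

Obstruction lemmas: in an abelian 2-group `T` whose involutions are all `2 ^ (e - 1)`-th powers,
suitable fixed elements are norms.
-/

set_option autoImplicit false
set_option linter.style.haveILetI false
set_option linter.unusedSectionVars false

namespace Cfsg.Agent.Grp.Pyramidal

open Finset

variable {T : Type*} [CommGroup T]

theorem map_prod_pow {ι : Type*} [Fintype ι] (χ : MulAut T) (f : ι → T) (k : ι → ℕ) :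
    χ (∏ i, f i ^ k i) = ∏ i, χ (f i) ^ k i := by
  rw [map_prod]
  simp only [map_pow]

/-- Spanning from the top layer. -/
theorem span_top {ι : Type*} [Fintype ι] (e : ℕ) (he : ∀ t : T, t ^ 2 ^ e = 1) (D : Subgroup T)
    (f : ι → T) (hf : ∀ i, f i ∈ D)
    (htop : ∀ c ∈ D, c ^ 2 = 1 → ∃ a : ι → ℕ, c = ∏ i, (f i ^ 2 ^ (e - 1)) ^ a i) :
    ∀ d ∈ D, ∃ a : ι → ℕ, d = ∏ i, f i ^ a i := by
  suffices key : ∀ j, j ≤ e → ∀ d ∈ D, d ^ 2 ^ j = 1 → ∃ a : ι → ℕ, d = ∏ i, f i ^ a i from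
    fun d hd => key e le_rfl d hd (he d)
  intro j
  induction j with
  | zero =>
    intro _ d _ h
    refine ⟨fun _ => 0, ?_⟩
    simpa using h
  | succ j ih =>
    intro hj d hd h
    have hc : (d ^ 2 ^ j) ^ 2 = 1 := by rwa [← pow_mul, ← pow_succ]
    obtain ⟨a, ha⟩ := htop _ (D.pow_mem hd _) hc
    set u := ∏ i, f i ^ (2 ^ (e - 1 - j) * a i) with hu
    have hu2 : u ^ 2 ^ j = d ^ 2 ^ j := by
      rw [ha, hu, ← prod_pow]
      refine prod_congr rfl fun i _ => ?_
      rw [← pow_mul, ← pow_mul, mul_right_comm, ← pow_add, Nat.sub_add_cancel (by omega)]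
    obtain ⟨b, hb⟩ := ih (by omega) (d * u⁻¹)
      (D.mul_mem hd (D.inv_mem (D.prod_mem fun i _ => D.pow_mem (hf i) _)))
      (by rw [mul_pow, inv_pow, hu2, mul_inv_cancel])
    refine ⟨fun i => b i + 2 ^ (e - 1 - j) * a i, ?_⟩
    rw [eq_mul_of_mul_inv_eq hb, hu, ← prod_mul_distrib]
    simp only [pow_add]

/-- An automorphism `ρ` of odd order, an involutive one `χ` commuting with it, and an involution `v`
fixed by `ρ`, moved by `χ`: elements fixed by both are norms. -/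
theorem exists_norm_two (e : ℕ) (he0 : 1 ≤ e) (he : ∀ t : T, t ^ 2 ^ e = 1) (ρ χ : MulAut T)
    {m : ℕ} (hm : Odd m) (hρ : ρ ^ m = 1) (hcomm : ρ * χ = χ * ρ) (hχ : ∀ t, χ (χ t) = t) {v : T}
    (hv : ρ v = v) (hv2 : v * v = 1) (hχv : χ v ≠ v) (hroot : ∃ t, t ^ 2 ^ (e - 1) = v)
    (hfix : ∀ c : T, c * c = 1 → ρ c = c → c = 1 ∨ c = v ∨ c = χ v ∨ c = v * χ v)
    {y : T} (hy : ρ y = y) (hy' : χ y = y) : ∃ t, y * χ t * t = 1 := by
  obtain ⟨t₀, ht₀⟩ := hroot
  -- an element fixed by `ρ` above `v`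
  obtain ⟨m', hm'⟩ : ∃ m', m * m' % 2 ^ e = 1 := by
    obtain ⟨j, hj⟩ := Nat.exists_mul_mod_eq_one_of_coprime
      ((Nat.coprime_two_right.2 hm).pow_right e) (Nat.one_lt_two_pow (by omega))
    exact ⟨j, hj.2⟩
  set u := ∏ i ∈ range m, (ρ ^ i) t₀ with hu
  have hρu : ρ u = u := by
    have h1 : ρ u = ∏ i ∈ range m, (ρ ^ (i + 1)) t₀ := by
      rw [hu, map_prod]
      exact prod_congr rfl fun i _ => by rw [pow_succ', MulAut.mul_apply]
    have h2 := prod_range_succ' (fun i => (ρ ^ i) t₀) m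
    rw [prod_range_succ, hρ, MulAut.one_apply, pow_zero, MulAut.one_apply] at h2
    rw [h1, hu]
    exact (mul_right_cancel h2).symm
  have hρv : ∀ i : ℕ, (ρ ^ i) v = v := fun i => by
    induction i with
    | zero => simp
    | succ i ih => rw [pow_succ, MulAut.mul_apply, hv, ih]
  obtain ⟨e₁, he₁⟩ : ∃ x, x = u ^ m' := ⟨_, rfl⟩
  have he1ρ : ρ e₁ = e₁ := by rw [he₁, map_pow, hρu]
  have he1v : e₁ ^ 2 ^ (e - 1) = v := by
    have h2m : v ^ (m * m') = v := by
      have h2e : v ^ 2 ^ e = 1 := by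
        rw [show e = e - 1 + 1 by omega, pow_succ', pow_mul, pow_two, hv2, one_pow]
      rw [← Nat.div_add_mod (m * m') (2 ^ e), hm', pow_add, pow_mul, h2e, one_pow, one_mul, pow_one]
    rw [he₁, ← pow_mul, mul_comm, pow_mul, hu, ← prod_pow]
    have : ∀ i ∈ range m, ((ρ ^ i) t₀) ^ 2 ^ (e - 1) = v := fun i _ => by
      rw [← map_pow, ht₀, hρv]
    rw [prod_congr rfl this, prod_const, card_range, ← pow_mul, h2m]
  let D : Subgroup T :=
    { carrier := {t | ρ t = t}
      one_mem' := map_one ρ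
      mul_mem' := fun {a b} ha hb => by
        change ρ (a * b) = a * b
        rw [map_mul, show ρ a = a from ha, show ρ b = b from hb]
      inv_mem' := fun {a} ha => by change ρ a⁻¹ = a⁻¹; rw [map_inv, show ρ a = a from ha] }
  have he2ρ : ρ (χ e₁) = χ e₁ := by rw [← MulAut.mul_apply, hcomm, MulAut.mul_apply, he1ρ]
  obtain ⟨a, ha⟩ := span_top e he D ![e₁, χ e₁] (fun i => by
      fin_cases i
      · exact he1ρ
      · exact he2ρ)
    (fun c hc hc2 => by
      rw [pow_two] at hc2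
      rcases hfix c hc2 hc with h | h | h | h
      · exact ⟨![0, 0], by simp [h]⟩
      · exact ⟨![1, 0], by simp [h, he1v]⟩
      · exact ⟨![0, 1], by simp [h, he1v, ← map_pow]⟩
      · exact ⟨![1, 1], by simp [h, he1v, ← map_pow]⟩) y hy
  rw [Fin.prod_univ_two] at ha
  change y = e₁ ^ a 0 * χ e₁ ^ a 1 at ha
  set z := e₁ * (χ e₁)⁻¹ with hz
  have hzv : z ^ 2 ^ (e - 1) ≠ 1 := by
    rw [hz, mul_pow, inv_pow, ← map_pow, he1v]
    intro h
    exact hχv (mul_inv_eq_one.1 h).symm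
  have hrel : e₁ ^ a 0 * χ e₁ ^ a 1 = e₁ ^ a 1 * χ e₁ ^ a 0 := by
    rw [← ha]
    conv_lhs => rw [← hy', ha, map_mul, map_pow, map_pow, hχ]
    rw [mul_comm]
  have horder : orderOf z = 2 ^ e := by
    have hd := orderOf_dvd_of_pow_eq_one (he z)
    obtain ⟨j, hj, hje⟩ := (Nat.dvd_prime_pow Nat.prime_two).1 hd
    rw [hje]
    congr 1
    by_contra hne
    exact hzv (orderOf_dvd_iff_pow_eq_one.1 (hje ▸ pow_dvd_pow 2 (by omega)))
  have hsym : z ^ a 0 = z ^ a 1 := by
    rw [hz, mul_pow, mul_pow, inv_pow, inv_pow, mul_inv_eq_iff_eq_mul, mul_right_comm,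
      eq_mul_inv_iff_mul_eq]
    rw [hrel]
  rw [pow_eq_pow_iff_modEq, horder] at hsym
  refine ⟨(e₁ ^ a 1)⁻¹, ?_⟩
  have he1 : e₁ ^ a 0 = e₁ ^ a 1 :=
    pow_eq_pow_iff_modEq.2 (hsym.of_dvd (orderOf_dvd_of_pow_eq_one (he e₁)))
  rw [ha, he1, map_inv, map_pow]
  group

variable [Finite T]

/-- Auxiliary form, with the module structure given. An automorphism in the derived group of `MulAut T` of order dividing 4, cyclic on the involutions
of `T ≅ (ℤ / 2 ^ e) ^ 3`: fixed elements are norms of the square. -/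
theorem exists_norm_three_aux {M : ℕ} [Module (ZMod M) (Additive T)] (e : ℕ) (hM : M = 2 ^ e) (he0 : 1 ≤ e) (he : ∀ t : T, t ^ 2 ^ e = 1) (σ : MulAut T)
    (hσ : σ ∈ commutator (MulAut T)) (h4 : ∀ t, σ (σ (σ (σ t))) = t) {v : T}
    (hroot : ∃ t, t ^ 2 ^ (e - 1) = v)
    (hspan : ∀ c : T, c * c = 1 → ∃ i j k : ℕ, c = v ^ i * σ v ^ j * σ (σ v) ^ k)
    (hind : ∀ i j k : ℕ, v ^ i * σ v ^ j * σ (σ v) ^ k = 1 → Even i ∧ Even j ∧ Even k)
    {y : T} (hy : σ y = y) : ∃ t, y * σ (σ t) * t = 1 := by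
  classical
  obtain ⟨u, hu⟩ := hroot
  let f : Fin 3 → T := ![u, σ u, σ (σ u)]
  have hfv : ∀ i, f i ^ 2 ^ (e - 1) = ![v, σ v, σ (σ v)] i := fun i => by
    fin_cases i <;> simp [f, ← map_pow, hu]
  have hsp : ∀ t : T, ∃ a : Fin 3 → ℕ, t = ∏ i, f i ^ a i := fun t =>
    span_top e he ⊤ f (fun _ => Subgroup.mem_top _) (fun c _ hc => by
      rw [pow_two] at hc
      obtain ⟨i, j, k, h⟩ := hspan c hc
      exact ⟨![i, j, k], by simp [Fin.prod_univ_three, hfv, h]⟩) t (Subgroup.mem_top t)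
  haveI : NeZero M := ⟨by rw [hM]; positivity⟩
  have hsm : ∀ (k : ℕ) (t : T), (k : ZMod M) • Additive.ofMul t = Additive.ofMul (t ^ k) := fun k t => by
    rw [Nat.cast_smul_eq_nsmul, ← ofMul_pow]
  let L : (Fin 3 → ZMod M) →ₗ[ZMod M] Additive T :=
    Fintype.linearCombination (ZMod M) fun i => Additive.ofMul (f i)
  have hL : ∀ a : Fin 3 → ℕ, L (fun i => (a i : ZMod M)) = Additive.ofMul (∏ i, f i ^ a i) := fun a => by
    simp only [L, Fintype.linearCombination_apply, hsm, ofMul_prod]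
  have hLinj : Function.Injective L := by
    rw [injective_iff_map_eq_zero]
    intro x hx
    obtain ⟨a, rfl⟩ : ∃ a : Fin 3 → ℕ, x = fun i => (a i : ZMod M) :=
      ⟨fun i => (x i).val, funext fun i => (ZMod.natCast_zmod_val _).symm⟩
    rw [hL] at hx
    have hx' : (∏ i, f i ^ a i) = 1 := hx
    have key : ∀ j, j ≤ e → ∀ i, 2 ^ j ∣ a i := by
      intro j
      induction j with
      | zero => simp
      | succ j ih =>
        intro hj
        choose b hb using fun i => ih (by omega) i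
        have h1 := congrArg (· ^ 2 ^ (e - 1 - j)) hx'
        simp only [one_pow, ← prod_pow] at h1
        have h2 : ∏ i, (![v, σ v, σ (σ v)] i) ^ b i = 1 := by
          rw [← h1]
          refine prod_congr rfl fun i _ => ?_
          rw [← hfv, ← pow_mul, ← pow_mul, hb i]
          congr 1
          rw [mul_comm (2 ^ j * b i), ← mul_assoc, ← pow_add, Nat.sub_add_cancel (by omega)]
        rw [Fin.prod_univ_three] at h2
        obtain ⟨h₀, h₁, h₂⟩ := hind (b 0) (b 1) (b 2) h2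
        intro i
        rw [hb i, pow_succ]
        refine Nat.mul_dvd_mul_left _ ?_
        fin_cases i
        · exact h₀.two_dvd
        · exact h₁.two_dvd
        · exact h₂.two_dvd
    funext i
    exact (ZMod.natCast_eq_zero_iff _ _).2 (by rw [hM]; exact key e le_rfl i)
  have hLsurj : Function.Surjective L := fun x => by
    obtain ⟨a, ha⟩ := hsp x.toMul
    exact ⟨_, (hL a).trans (congrArg Additive.ofMul ha).symm⟩
  let Φ : (Fin 3 → ZMod M) ≃ₗ[ZMod M] Additive T := LinearEquiv.ofBijective L ⟨hLinj, hLsurj⟩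
  -- the determinant
  let act : MulAut T → ((Fin 3 → ZMod M) →ₗ[ZMod M] (Fin 3 → ZMod M)) := fun φ =>
    Φ.symm.toLinearMap ∘ₗ ((MonoidHom.toAdditive φ.toMonoidHom).toZModLinearMap M) ∘ₗ Φ.toLinearMap
  have hact : ∀ φ x, act φ x = Φ.symm (Additive.ofMul (φ (Φ x).toMul)) := fun _ _ => rfl
  let dhom : MulAut T →* ZMod M :=
    { toFun := fun φ => LinearMap.det (act φ)
      map_one' := by
        rw [show act 1 = LinearMap.id from LinearMap.ext fun x => by simp [hact]]
        exact LinearMap.det_id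
      map_mul' := fun φ ψ => by
        rw [← LinearMap.det_comp, show act (φ * ψ) = act φ ∘ₗ act ψ from LinearMap.ext fun x => by
          simp [hact]] }
  have hdet : dhom σ = 1 := by
    have h1 := Abelianization.commutator_subset_ker dhom.toHomUnits hσ
    have h2 := congrArg Units.val (MonoidHom.mem_ker.1 h1)
    simpa using h2
  obtain ⟨c₀, hc₀⟩ := hsp (σ (σ (σ u)))
  have hΦ : ∀ i : Fin 3, Φ (Pi.single i 1) = Additive.ofMul (f i) := fun i => by
    change L (Pi.single i 1) = _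
    simp [L]
  have hmat : LinearMap.toMatrix' (act σ) =
      !![0, 0, (c₀ 0 : ZMod M); 1, 0, (c₀ 1 : ZMod M); 0, 1, (c₀ 2 : ZMod M)] := by
    have hcol : act σ (Pi.single 0 1) = Pi.single 1 1 ∧ act σ (Pi.single 1 1) = Pi.single 2 1 ∧
        act σ (Pi.single 2 1) = fun i => (c₀ i : ZMod M) := by
      refine ⟨?_, ?_, ?_⟩ <;> rw [hact, hΦ, LinearEquiv.symm_apply_eq]
      · rw [hΦ]; rfl
      · rw [hΦ]; rfl
      · exact (congrArg Additive.ofMul hc₀).trans (hL c₀).symm
    ext i j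
    rw [LinearMap.toMatrix'_apply]
    fin_cases j <;> simp only [Fin.isValue, Fin.zero_eta, Fin.mk_one, Fin.reduceFinMk] <;>
      first | rw [hcol.1] | rw [hcol.2.1] | rw [hcol.2.2]
    all_goals fin_cases i <;> simp
  have hc0 : (c₀ 0 : ZMod M) = 1 := by
    change LinearMap.det (act σ) = 1 at hdet
    rw [← LinearMap.det_toMatrix', hmat, Matrix.det_fin_three] at hdet
    simpa using hdet
  -- coordinates
  set b : ZMod M := (c₀ 1 : ZMod M)
  set c : ZMod M := (c₀ 2 : ZMod M)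
  have happly : ∀ x : Fin 3 → ZMod M, act σ x = ![x 2, x 0 + b * x 2, x 1 + c * x 2] := fun x => by
    rw [← Matrix.toLin'_toMatrix' (act σ), hmat, hc0, Matrix.toLin'_apply]
    funext i
    fin_cases i <;> simp [Matrix.mulVec, dotProduct, Fin.sum_univ_three, b, c]
  have h4' : ∀ x, act σ (act σ (act σ (act σ x))) = x := fun x => by
    simp [hact, h4]
  have e0 := h4' ![1, 0, 0]
  simp [happly] at e0
  have hc1 : c = 1 ∧ b = -1 := by
    obtain ⟨x0, x1, x2⟩ := e0
    refine ⟨x0, ?_⟩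
    rw [x0] at x2
    linear_combination x2
  -- fixed points
  set x := Φ.symm (Additive.ofMul y)
  have hfix : act σ x = x := by simp [x, hact, hy]
  rw [happly, hc1.1, hc1.2] at hfix
  have h0 := congrFun hfix 0
  have h1 := congrFun hfix 1
  have h2 := congrFun hfix 2
  simp at h0 h1 h2
  refine ⟨(u ^ (x 0).val)⁻¹, ?_⟩
  have hy2 : Additive.ofMul y = Φ x := (Φ.apply_symm_apply _).symm
  have hx : x = fun i => ((![(x 0).val, 0, (x 0).val] i : ℕ) : ZMod M) := by
    funext i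
    fin_cases i
    · simp [ZMod.natCast_zmod_val]
    · simp only [Fin.mk_one, Matrix.cons_val_one, Matrix.cons_val_zero, Nat.cast_zero]
      grind
    · simp only [Fin.reduceFinMk, Matrix.cons_val, ZMod.natCast_zmod_val]
      grind
  have hy3 : y = u ^ (x 0).val * σ (σ u) ^ (x 0).val := by
    have := congrArg Additive.toMul (hy2.trans ((congrArg Φ hx).trans (hL _)))
    simpa [Fin.prod_univ_three, f] using this
  rw [hy3, map_inv, map_inv, map_pow, map_pow]
  group

/-- An automorphism in the derived group of `MulAut T` of order dividing 4, cyclic on the involutions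
of `T ≅ (ℤ / 2 ^ e) ^ 3`: fixed elements are norms of the square. -/
theorem exists_norm_three (e : ℕ) (he0 : 1 ≤ e) (he : ∀ t : T, t ^ 2 ^ e = 1) (σ : MulAut T)
    (hσ : σ ∈ commutator (MulAut T)) (h4 : ∀ t, σ (σ (σ (σ t))) = t) {v : T}
    (hroot : ∃ t, t ^ 2 ^ (e - 1) = v)
    (hspan : ∀ c : T, c * c = 1 → ∃ i j k : ℕ, c = v ^ i * σ v ^ j * σ (σ v) ^ k)
    (hind : ∀ i j k : ℕ, v ^ i * σ v ^ j * σ (σ v) ^ k = 1 → Even i ∧ Even j ∧ Even k)
    {y : T} (hy : σ y = y) : ∃ t, y * σ (σ t) * t = 1 := by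
  haveI : NeZero (2 ^ e) := ⟨by positivity⟩
  letI : Module (ZMod (2 ^ e)) (Additive T) := AddCommGroup.zmodModule (fun x => he x.toMul)
  exact exists_norm_three_aux e rfl he0 he σ hσ h4 hroot hspan hind hy

end Cfsg.Agent.Grp.Pyramidal
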