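import Mathlib

/-!
# Some automorphisms of elementary abelian 2-groups
-/

set_option autoImplicit false
set_option linter.style.haveILetI false
set_option linter.unusedSectionVars false

namespace Cfsg.Agent.Grp.Pyramidal

theorem exists_addEquiv_aux (A B : Type*) [AddCommGroup A] [AddCommGroup B] [Finite A] [Finite B]
    [Module (ZMod 2) A] [Module (ZMod 2) B] (h : Nat.card A = Nat.card B) : Nonempty (A ≃+ B) := by
  haveI : Module.Finite (ZMod 2) A := Module.Finite.of_finite
  haveI : Module.Finite (ZMod 2) B := Module.Finite.of_finite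
  rw [Module.natCard_eq_pow_finrank (K := ZMod 2) (V := A),
    Module.natCard_eq_pow_finrank (K := ZMod 2) (V := B)] at h
  have hr : Module.finrank (ZMod 2) A = Module.finrank (ZMod 2) B := by
    rw [Nat.card_zmod] at h
    exact Nat.pow_right_injective le_rfl h
  exact ⟨(LinearEquiv.ofFinrankEq A B hr).toAddEquiv⟩

/-- Two elementary abelian 2-groups of the same order are isomorphic. -/
theorem exists_mulEquiv {V : Type*} [CommGroup V] [Finite V] (h2 : ∀ v : V, v * v = 1) (M : Type*)
    [AddCommGroup M] [Finite M] (hM : ∀ x : M, x + x = 0) (hc : Nat.card V = Nat.card M) :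
    Nonempty (V ≃* Multiplicative M) := by
  letI : Module (ZMod 2) (Additive V) := AddCommGroup.zmodModule fun x => by
    rw [two_nsmul]; exact h2 x.toMul
  letI : Module (ZMod 2) M := AddCommGroup.zmodModule fun x => by rw [two_nsmul]; exact hM x
  obtain ⟨f⟩ := exists_addEquiv_aux (Additive V) M ((Nat.card_congr Additive.ofMul).symm.trans hc)
  exact ⟨AddEquiv.toMultiplicativeRight f⟩

/-- Transport of an automorphism of the model. -/
def transport {V M : Type*} [Group V] [Group M] (f : V ≃* M) : MulAut M →* MulAut V :=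
  (MulAut.congr f.symm).toMonoidHom

theorem transport_apply {V M : Type*} [Group V] [Group M] (f : V ≃* M)
    (A : MulAut M) (v : V) : f (transport f A v) = A (f v) := by
  change f (f.symm (A (f.symm.symm v))) = _
  rw [MulEquiv.apply_symm_apply, MulEquiv.symm_symm]

/-- The three-dimensional model. -/
abbrev M3 : Type := Multiplicative (ZMod 2 × ZMod 2 × ZMod 2)

/-- An element of the model. -/
def m3 (a b c : ZMod 2) : M3 := Multiplicative.ofAdd (a, b, c)

/-- Exchange of the first and last coordinate. -/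
def m3A : MulAut M3 where
  toFun x := m3 x.toAdd.2.2 x.toAdd.2.1 x.toAdd.1
  invFun x := m3 x.toAdd.2.2 x.toAdd.2.1 x.toAdd.1
  left_inv := by decide
  right_inv := by decide
  map_mul' := by decide

/-- The companion of `m3A`. -/
def m3B : MulAut M3 where
  toFun x := m3 x.toAdd.2.2 (x.toAdd.1 + x.toAdd.2.1) x.toAdd.2.1
  invFun x := m3 (x.toAdd.2.1 + x.toAdd.2.2) x.toAdd.2.2 x.toAdd.1
  left_inv := by decide
  right_inv := by decide
  map_mul' := by decide

/-- The element of order four. -/
def m3S : MulAut M3 := m3A * m3B * m3A⁻¹ * m3B⁻¹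

theorem m3S_four : ∀ x : M3, m3S (m3S (m3S (m3S x))) = x := by decide

theorem m3S_span : ∀ x : M3, ∃ i j k : Fin 2, x =
    m3 1 0 0 ^ (i : ℕ) * m3S (m3 1 0 0) ^ (j : ℕ) * m3S (m3S (m3 1 0 0)) ^ (k : ℕ) := by decide

theorem m3S_ind : ∀ i j k : Fin 2, m3 1 0 0 ^ (i : ℕ) * m3S (m3 1 0 0) ^ (j : ℕ) *
    m3S (m3S (m3 1 0 0)) ^ (k : ℕ) = 1 → i = 0 ∧ j = 0 ∧ k = 0 := by decide

theorem m3S_sq : m3S (m3S (m3 0 0 1)) ≠ m3 0 0 1 := by decide

theorem m3_sq : ∀ x : M3, x ^ 2 = 1 := by decide

theorem m3_add_self : ∀ x : ZMod 2 × ZMod 2 × ZMod 2, x + x = 0 := by decide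

theorem zmod2_sq_cases : ∀ q : ZMod 2 × ZMod 2,
    q = 0 ∨ q = (1, 0) ∨ q = (0, 1) ∨ q = (1, 0) + (0, 1) := by decide

/-- The model in higher dimension. -/
abbrev MBig (m : ℕ) : Type := Multiplicative ((ZMod 2 × ZMod 2) × GaloisField 2 m)

/-- An element of the big model. -/
def mBig {m : ℕ} (q : ZMod 2 × ZMod 2) (c : GaloisField 2 m) : MBig m := Multiplicative.ofAdd (q, c)

/-- Exchange of the two first coordinates. -/
noncomputable def bigA (m : ℕ) : MulAut (MBig m) :=
  AddEquiv.toMultiplicative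
    (AddEquiv.prodCongr (AddEquiv.prodComm (M := ZMod 2) (N := ZMod 2)) (AddEquiv.refl (GaloisField 2 m)))

/-- Multiplication by a unit on the field. -/
noncomputable def bigR (m : ℕ) : (GaloisField 2 m)ˣ →* MulAut (MBig m) where
  toFun z := AddEquiv.toMultiplicative (AddEquiv.prodCongr (AddEquiv.refl (ZMod 2 × ZMod 2))
    (AddEquiv.mk' { toFun := fun c => (z : GaloisField 2 m) * c,
                    invFun := fun c => ((z⁻¹ : (GaloisField 2 m)ˣ) : GaloisField 2 m) * c,
                    left_inv := fun c => by simp [← mul_assoc],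
                    right_inv := fun c => by simp [← mul_assoc] } fun a b => mul_add _ a b))
  map_one' := MulEquiv.ext fun x => by
    change mBig x.toAdd.1 (((1 : (GaloisField 2 m)ˣ) : GaloisField 2 m) * x.toAdd.2) = x
    rw [Units.val_one, one_mul]
    rfl
  map_mul' a b := MulEquiv.ext fun x => by
    change mBig x.toAdd.1 (((a * b : (GaloisField 2 m)ˣ) : GaloisField 2 m) * x.toAdd.2) =
      mBig x.toAdd.1 ((a : GaloisField 2 m) * ((b : GaloisField 2 m) * x.toAdd.2))
    rw [Units.val_mul, mul_assoc]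

theorem bigA_apply {m : ℕ} (q : ZMod 2 × ZMod 2) (c : GaloisField 2 m) :
    bigA m (mBig q c) = mBig (q.2, q.1) c := rfl

theorem bigR_apply {m : ℕ} (z : (GaloisField 2 m)ˣ) (q : ZMod 2 × ZMod 2) (c : GaloisField 2 m) :
    bigR m z (mBig q c) = mBig q ((z : GaloisField 2 m) * c) := rfl

end Cfsg.Agent.Grp.Pyramidal
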