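import Mathlib
import Cfsg.Agent.Lib.Grp.Pyramidal.CentCase
import Cfsg.Agent.Lib.Grp.Pyramidal.Homocyclic
import Cfsg.Agent.Lib.Grp.Pyramidal.Model

/-!
# The automizer is not the full linear group
-/

set_option autoImplicit false
set_option linter.style.haveILetI false
set_option linter.unusedSectionVars false

namespace Cfsg.Agent.Grp.Pyramidal

open Subgroup
open scoped commutatorElement

variable {G : Type*} [Group G] [Finite G] {V : Subgroup G} {p n : ℕ}

theorem ker_conjNormal [V.Normal] :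
    ((MulAut.conjNormal : G →* MulAut V)).ker = centralizer (V : Set G) := by
  ext g
  rw [MonoidHom.mem_ker, mem_centralizer_iff]
  constructor
  · intro hg v hv
    have := congrArg (fun φ : MulAut V => ((φ ⟨v, hv⟩ : V) : G)) hg
    simp only [MulAut.conjNormal_apply, MulAut.one_apply] at this
    exact (mul_inv_eq_iff_eq_mul.1 this).symm
  · intro hg
    refine MulEquiv.ext fun v => Subtype.ext ?_
    rw [MulAut.conjNormal_apply, MulAut.one_apply]
    exact mul_inv_eq_iff_eq_mul.2 (hg v v.2).symm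

/-- A power which is a 2-element and congruent to one. -/
theorem exists_two_part (g : G) (i : ℕ) :
    ∃ E K : ℕ, E ≡ 1 [MOD 2 ^ i] ∧ (g ^ E) ^ 2 ^ K = 1 := by
  set K := (orderOf g).factorization 2
  set m := orderOf g / 2 ^ K
  have hm : ¬ 2 ∣ m := Nat.not_dvd_ordCompl Nat.prime_two (orderOf_pos g).ne'
  rcases Nat.eq_zero_or_pos i with rfl | hi
  · exact ⟨m, K, by simp [Nat.ModEq, Nat.mod_one], by
      rw [← pow_mul, mul_comm, Nat.ordProj_mul_ordCompl_eq_self, pow_orderOf_eq_one]⟩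
  obtain ⟨j, -, hj⟩ := Nat.exists_mul_mod_eq_one_of_coprime
    ((Nat.prime_two.coprime_iff_not_dvd.2 hm).symm.pow_right i) (Nat.one_lt_two_pow (by omega))
  refine ⟨m * j, K, ?_, ?_⟩
  · rw [Nat.ModEq, hj, Nat.one_mod_eq_one.2]
    exact (Nat.one_lt_two_pow (by omega)).ne'
  · rw [← pow_mul, show m * j * 2 ^ K = 2 ^ K * m * j by ring, Nat.ordProj_mul_ordCompl_eq_self,
      pow_mul, pow_orderOf_eq_one, one_pow]

theorem pow_of_modEq {H : Type*} [Group H] {φ : H} {i E : ℕ} (hφ : φ ^ 2 ^ i = 1)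
    (hE : E ≡ 1 [MOD 2 ^ i]) : φ ^ E = φ :=
  (pow_eq_pow_iff_modEq.2 (hE.of_dvd (orderOf_dvd_of_pow_eq_one hφ))).trans (pow_one φ)

/-- The case in which `G` induces every automorphism of `V`. -/
theorem Inv.false_of_surjective (h : Inv G V p n) (hnp : n.Prime) (hn2 : n ≠ 2) [V.Normal]
    (hC : Group.IsSolvable (centralizer (V : Set G)))
    (hsurj : Function.Surjective (MulAut.conjNormal : G →* MulAut V)) : False := by
  classical
  haveI : Fact (Nat.Prime 2) := ⟨Nat.prime_two⟩
  have hn3 : 3 ≤ n := by have := hnp.two_le; omega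
  set C := centralizer (V : Set G) with hCdef
  haveI : C.Normal := by rw [hCdef, ← ker_conjNormal]; infer_instance
  letI : CommGroup V :=
    { (inferInstance : Group V) with mul_comm := fun a b => Subtype.ext (h.mul_comm_mem a.2 b.2) }
  have hV2 : ∀ v : V, v * v = 1 := fun v => Subtype.ext ((h.invol v).2 v.2)
  have hVV : ∀ a b : V, a * (a * b) = b := fun a b => by rw [← mul_assoc, hV2, one_mul]
  have hVC : V ≤ C := fun v hv => mem_centralizer_iff.2 fun w hw => h.mul_comm_mem hw hv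
  let TC : Sylow 2 C := default
  set T := (TC : Subgroup C).map C.subtype with hTdef
  have hTC : T ≤ C := map_subtype_le _
  have hTp : IsPGroup 2 T := TC.isPGroup'.map _
  have hVT : V ≤ T := by
    intro v hv
    have hle : V.subgroupOf C ≤ (TC : Subgroup C) :=
      ((IsPGroup.of_card (p := 2) h.card).comap_subtype).le_sylow_of_normal TC
    exact ⟨⟨v, hVC hv⟩, hle hv, rfl⟩
  have hcV : ∀ v ∈ V, ∀ t ∈ T, t * v = v * t := fun v hv t ht =>
    (mem_centralizer_iff.1 (hTC ht) v hv).symm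
  set N := normalizer (T : Set G) with hN
  have hlift : ∀ φ : MulAut V, ∃ g ∈ N, MulAut.conjNormal g = φ := by
    intro φ
    obtain ⟨g, rfl⟩ := hsurj φ
    have hg : g ∈ N ⊔ C := (Sylow.normalizer_sup_eq_top TC : N ⊔ C = ⊤) ▸ mem_top g
    rw [← SetLike.mem_coe, Subgroup.mul_normal] at hg
    obtain ⟨a, ha, c, hc, rfl⟩ := hg
    refine ⟨a, ha, ?_⟩
    rw [map_mul]
    have : (MulAut.conjNormal c : MulAut V) = 1 := by
      rw [← MonoidHom.mem_ker, ker_conjNormal]; exact hc
    rw [this, mul_one]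
  have htwoT : ∀ x ∈ N, ∀ K : ℕ, MulAut.conjNormal x = (1 : MulAut V) → x ^ 2 ^ K = 1 → x ∈ T := by
    intro x hxN K hx1 hK
    have hxC : x ∈ C := by rw [hCdef, ← ker_conjNormal]; exact hx1
    have hz : IsPGroup 2 (zpowers (⟨x, hxC⟩ : C)) := by
      obtain ⟨j, -, hj⟩ := (Nat.dvd_prime_pow Nat.prime_two).1
        (orderOf_dvd_of_pow_eq_one (x := (⟨x, hxC⟩ : C)) (n := 2 ^ K) (Subtype.ext (by simpa using hK)))
      exact Invol.isPGroup_zpowers hj
    have hle : zpowers (⟨x, hxC⟩ : C) ≤ (TC : Subgroup C) := by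
      rw [← inf_eq_left, ← hz.inf_normalizer_sylow, inf_eq_left, Subgroup.zpowers_le]
      refine Subgroup.mem_normalizer_fintype fun l hl => ?_
      obtain ⟨l', hl', e⟩ := (mem_normalizer_iff.1 hxN _).1 (⟨l, hl, rfl⟩ : (l : G) ∈ T)
      have e' : l' = (⟨x, hxC⟩ : C) * l * (⟨x, hxC⟩ : C)⁻¹ := Subtype.ext e
      exact e' ▸ hl'
    exact ⟨⟨x, hxC⟩, hle (mem_zpowers _), rfl⟩
  -- a transitive element
  obtain ⟨g₁, hg₁, ⟨a, ha⟩, hgp, hgtr⟩ := h.exists_cycle (N := N) (fun v hv w hw hv1 hw1 => by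
    obtain ⟨g, hg⟩ := h.trans v hv w hw hv1 hw1
    obtain ⟨g', hg', e⟩ := hlift (MulAut.conjNormal g)
    refine ⟨g', hg', ?_⟩
    have := congrArg (fun φ : MulAut V => ((φ ⟨v, hv⟩ : V) : G)) e
    simp only [MulAut.conjNormal_apply] at this
    rw [this, hg])
  let ψ : N →* MulAut T := Subgroup.normalizerMonoidHom T
  have hψ : ∀ (x : N) (t : T), ((ψ x t : T) : G) = (x : G) * t * (x : G)⁻¹ := fun _ _ => rfl
  have hψV : ∀ (x : N) (v : V), ψ x ⟨v, hVT v.2⟩ = ⟨_, hVT (MulAut.conjNormal (x : G) v).2⟩ :=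
    fun x v => Subtype.ext (by rw [hψ]; exact (MulAut.conjNormal_apply (x : G) v).symm)
  have habel : ∀ x ∈ T, ∀ y ∈ T, x * y = y * x := by
    by_contra hna
    obtain ⟨hsd, htr, hcard⟩ := (h.two_group_cases hVT hTp hcV hg₁ ha hgp hgtr).resolve_left hna
    set W := V.subgroupOf T with hW
    have hWc : Nat.card W = Nat.card V := Nat.card_congr (subgroupOfEquivOfLe hVT).toEquiv
    -- a transvection
    have htransv : ∀ (c : V) (χ : V →* ℤ), χ c = 1 → ∃ φ : MulAut V,
        (∀ v, φ (φ v) = v) ∧ ∀ v, φ v = if χ v = 1 then v else v * c := by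
      intro c χ hc
      have hpm : ∀ v, χ v = 1 ∨ χ v = -1 := fun v =>
        mul_self_eq_one_iff.1 (char_mul_self hV2 χ v)
      let F : V → V := fun v => if χ v = 1 then v else v * c
      have hχF : ∀ v, χ (F v) = χ v := fun v => by
        simp only [F]; split_ifs <;> simp [hc]
      have hF2 : ∀ v, F (F v) = v := fun v => by
        rw [show F (F v) = if χ (F v) = 1 then F v else F v * c from rfl, hχF]
        simp only [F]
        split_ifs <;> simp [mul_assoc, hV2]
      refine ⟨{ toFun := F, invFun := F, left_inv := hF2, right_inv := hF2, map_mul' := fun a b => ?_ },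
        hF2, fun v => rfl⟩
      simp only [F, map_mul]
      rcases hpm a with e | e <;> rcases hpm b with e' | e' <;>
        simp [e, e', mul_comm, mul_left_comm, hVV]
    obtain ⟨c, hc, hc1⟩ := h.exists_involution
    obtain ⟨χ, hχ, hχc⟩ := exists_char hV2 (U := zpowers (⟨c, hc⟩ : V)) (fun e => by
      have h1 := congrArg (fun K : Subgroup V => Nat.card K) e
      simp only [Nat.card_zpowers, Subgroup.card_top, h.card] at h1
      have h2 : orderOf (⟨c, hc⟩ : V) ≤ 2 :=
        Nat.le_of_dvd two_pos (orderOf_dvd_of_pow_eq_one (by rw [pow_two, hV2]))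
      have : 2 ^ 3 ≤ 2 ^ n := Nat.pow_le_pow_right two_pos hn3
      omega)
    obtain ⟨τ, hτ2, hτ⟩ := htransv ⟨c, hc⟩ χ (hχc _ (mem_zpowers _))
    rcases hcard with h2 | h3
    · -- linearity of the squaring map
      refine hna fun x hx y hy => ?_
      have h2' : Nat.card T = Nat.card W ^ 2 := h2.trans (by rw [hWc])
      have hcentral : ∀ {z : T}, z ∈ W → ∀ u : T, z * u = u * z := fun hz u => (hsd.central _ hz u).symm
      set x' : T := ⟨x, hx⟩
      set y' : T := ⟨y, hy⟩
      suffices x' * y' = y' * x' from congrArg Subtype.val this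
      by_cases hxy : x' * x' = y' * y'
      · have e : y' = x' * (x'⁻¹ * y') := by group
        rw [e, ← mul_assoc x' x', mul_assoc x' (x'⁻¹ * y') x',
          hcentral (hsd.eq_coset_of_sq_eq htr h2' hxy) x']
        group
      by_cases hx1 : x' ∈ W
      · exact hcentral hx1 y'
      by_cases hy1 : y' ∈ W
      · exact (hcentral hy1 x').symm
      let s : T → V := fun z => ⟨(z : G) * z, hsd.sq z⟩
      have key : ∀ U : Subgroup V, s x' ∈ U → s y' ∈ U → s (x' * y') ∈ U := by
        intro U h1 h2U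
        by_contra h3U
        obtain ⟨χ, hχU, hχz⟩ : ∃ χ : V →* ℤ, (∀ u ∈ U, χ u = 1) ∧ χ (s (x' * y')) ≠ 1 := by
          have hne : (QuotientGroup.mk (s (x' * y')) : V ⧸ U) ≠ 1 := fun e =>
            h3U ((QuotientGroup.eq_one_iff _).1 e)
          have hexp : Monoid.exponent (V ⧸ U) ∣ 2 :=
            Monoid.exponent_dvd_of_forall_pow_eq_one fun z => by
              induction z using QuotientGroup.induction_on with
              | H z => rw [pow_two, ← QuotientGroup.mk_mul, hV2]; rfl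
          haveI : HasEnoughRootsOfUnity ℤ 2 :=
            { prim := ⟨-1, IsPrimitiveRoot.neg_one 0 (by norm_num)⟩
              cyc := inferInstance }
          haveI : HasEnoughRootsOfUnity ℤ (Monoid.exponent (V ⧸ U)) :=
            HasEnoughRootsOfUnity.of_dvd ℤ hexp
          obtain ⟨φ, hφ⟩ := CommGroup.exists_apply_ne_one_of_hasEnoughRootsOfUnity (V ⧸ U) ℤ hne
          refine ⟨(Units.coeHom ℤ).comp (φ.comp (QuotientGroup.mk' U)), fun u hu => ?_,
            fun e => hφ (Units.ext e)⟩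
          simp [(QuotientGroup.eq_one_iff u).2 hu]
        obtain ⟨φ, -, hφ⟩ := htransv (s x') χ (hχU _ h1)
        obtain ⟨k, hk, hkφ⟩ := hlift φ
        have hsk : ∀ z : T, s (ψ ⟨k, hk⟩ z) = φ (s z) := by
          intro z
          rw [← hkφ]
          refine Subtype.ext ?_
          rw [MulAut.conjNormal_apply]
          change ((ψ ⟨k, hk⟩ z : T) : G) * _ = _
          rw [hψ]
          change k * (z : G) * k⁻¹ * (k * (z : G) * k⁻¹) = k * ((z : G) * z) * k⁻¹
          group
        have hfix : ∀ z : T, φ (s z) = s z → z⁻¹ * ψ ⟨k, hk⟩ z ∈ W := fun z hz => by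
          refine hsd.eq_coset_of_sq_eq htr h2' ?_
          have := hsk z
          rw [hz] at this
          exact Subtype.ext (congrArg (fun v : V => (v : G)) this).symm
        have hfx : φ (s x') = s x' := by rw [hφ, if_pos (hχU _ h1)]
        have hfy : φ (s y') = s y' := by rw [hφ, if_pos (hχU _ h2U)]
        have hprod : ψ ⟨k, hk⟩ (x' * y') * ψ ⟨k, hk⟩ (x' * y') = x' * y' * (x' * y') := by
          have e1 : ψ ⟨k, hk⟩ x' = x' * (x'⁻¹ * ψ ⟨k, hk⟩ x') := by group
          have e2 : ψ ⟨k, hk⟩ y' = y' * (y'⁻¹ * ψ ⟨k, hk⟩ y') := by group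
          rw [map_mul, e1, e2, mul_assoc x', ← mul_assoc (x'⁻¹ * ψ ⟨k, hk⟩ x'),
            hcentral (hfix x' hfx) y', mul_assoc y', ← mul_assoc x', hsd.sq_mul]
          exact W.mul_mem (hfix x' hfx) (hfix y' hfy)
        have hs' : s (ψ ⟨k, hk⟩ (x' * y')) = s (x' * y') :=
          Subtype.ext (congrArg (fun z : T => (z : G)) hprod :)
        rw [hsk, hφ, if_neg hχz, mul_eq_left] at hs'
        exact hx1 ((hsd.invol x').1 (Subtype.ext (congrArg Subtype.val hs' :)))
      have hsxy : s (x' * y') = 1 ∨ s (x' * y') = s x' ∨ s (x' * y') = s y' ∨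
          s (x' * y') = s x' * s y' := by
        let U : Subgroup V :=
          { carrier := {1, s x', s y', s x' * s y'}
            one_mem' := Or.inl rfl
            mul_mem' := fun {a b} ha hb => by
              simp only [Set.mem_insert_iff, Set.mem_singleton_iff] at ha hb ⊢
              rcases ha with rfl | rfl | rfl | rfl <;> rcases hb with rfl | rfl | rfl | rfl <;>
                simp [mul_comm, mul_left_comm, hV2, hVV]
            inv_mem' := fun {a} ha => by
              rw [inv_eq_of_mul_eq_one_right (hV2 a)]; exact ha }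
        exact key U (Or.inr (Or.inl rfl)) (Or.inr (Or.inr (Or.inl rfl)))
      have hsq : x' * y' * (x' * y') = x' * x' * (y' * y') := by
        rcases hsxy with e | e | e | e
        · refine absurd ?_ hxy
          have hm : x' * y' ∈ W := (hsd.invol _).1 (Subtype.ext (congrArg Subtype.val e :))
          rw [← hsd.sq_mul x' hm, show x' * (x' * y') * (x' * (x' * y')) =
            (x' * x') * y' * ((x' * x') * y') by group, mul_assoc _ y', ← mul_assoc y' (x' * x'),
            ← hcentral (hsd.sq x') y', mul_assoc (x' * x') y', ← mul_assoc, ← mul_assoc,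
            (hsd.invol _).2 (hsd.sq x'), one_mul]
        · refine absurd ?_ hy1
          have hm := hsd.eq_coset_of_sq_eq htr h2' (x := x') (y := x' * y')
            (Subtype.ext (congrArg Subtype.val e :).symm)
          rwa [inv_mul_cancel_left] at hm
        · refine absurd ?_ hx1
          have hm := hsd.eq_coset_of_sq_eq htr h2' (x := y') (y := x' * y')
            (Subtype.ext (congrArg Subtype.val e :).symm)
          have := hsd.normal.conj_mem _ hm y'
          rwa [show y' * (y'⁻¹ * (x' * y')) * y'⁻¹ = x' by group] at this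
        · exact Subtype.ext (congrArg Subtype.val e :)
      rw [mul_assoc x' y', mul_assoc x' x', mul_left_cancel_iff, ← mul_assoc, ← mul_assoc,
        mul_right_cancel_iff] at hsq
      exact hsq.symm
    · -- an involution moving `V` cannot exist
      obtain ⟨g, hg, hgτ⟩ := hlift τ
      obtain ⟨E, K, hE, hK⟩ := exists_two_part g 1
      have hxN : g ^ E ∈ N := N.pow_mem hg E
      have hxτ : MulAut.conjNormal (g ^ E) = τ := by
        rw [map_pow, hgτ]
        exact pow_of_modEq (i := 1) (by rw [pow_one, pow_two]; exact MulEquiv.ext hτ2) hE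
      have hx2 : g ^ E * g ^ E ∈ T := htwoT _ (N.mul_mem hxN hxN) K
        (by rw [map_mul, hxτ]; exact MulEquiv.ext hτ2)
        (by rw [← pow_two, ← pow_mul, mul_comm, pow_mul, hK, one_pow])
      have hne : ∃ v : V, τ v ≠ v := by
        obtain ⟨v, hv⟩ : ∃ v, χ v ≠ 1 := by
          by_contra hc'
          push Not at hc'
          exact hχ (MonoidHom.ext hc')
        refine ⟨v, ?_⟩
        rw [hτ, if_neg hv, ne_eq, mul_eq_left]
        exact fun e => hc1 (congrArg Subtype.val e)
      obtain ⟨v, hv⟩ := hne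
      refine hsd.false_of_involutive htr (fun e => ?_) (h3.trans (by rw [hWc])) (ψ ⟨g ^ E, hxN⟩)
        (fun t => ?_) (v₁ := ⟨v, hVT v.2⟩) v.2 ?_
      · have := h.ne_bot
        rw [hW, Subgroup.subgroupOf_eq_bot, disjoint_iff, inf_eq_left.2 hVT] at e
        exact this e
      · have e : ψ ⟨g ^ E, hxN⟩ (ψ ⟨g ^ E, hxN⟩ t) = ⟨_, hx2⟩ * t * ⟨_, hx2⟩⁻¹ := Subtype.ext (by
          rw [hψ, hψ]
          change (g ^ E) * ((g ^ E) * (t : G) * (g ^ E)⁻¹) * (g ^ E)⁻¹ =
            (g ^ E * g ^ E) * t * (g ^ E * g ^ E)⁻¹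
          group)
        rw [e, show t⁻¹ * ((⟨_, hx2⟩ : T) * t * (⟨_, hx2⟩ : T)⁻¹) =
          t⁻¹ * ⟨_, hx2⟩ * t⁻¹⁻¹ * (⟨_, hx2⟩ : T)⁻¹ by group]
        exact hsd.cm_mem _ _
      · rw [hψV]
        intro e
        refine hv (Subtype.ext ?_)
        have := congrArg Subtype.val e
        rw [← hxτ]
        exact this
  -- the abelian case
  letI : CommGroup T := { (inferInstance : Group T) with
    mul_comm := fun a b => Subtype.ext (habel a a.2 b b.2) }
  obtain ⟨e, he⟩ : ∃ e, Monoid.exponent T = 2 ^ e := by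
    obtain ⟨j, hj⟩ := IsPGroup.iff_card.1 hTp
    obtain ⟨e, -, he⟩ := (Nat.dvd_prime_pow Nat.prime_two).1
      (hj ▸ Group.exponent_dvd_nat_card (G := T))
    exact ⟨e, he⟩
  have hexp : ∀ t : T, t ^ 2 ^ e = 1 := fun t => he ▸ Monoid.pow_exponent_eq_one t
  have he0 : 1 ≤ e := by
    obtain ⟨v, hv, hv1⟩ := h.exists_involution
    by_contra hlt
    have h1 := hexp ⟨v, hVT hv⟩
    rw [show e = 0 by omega, pow_zero, pow_one] at h1
    exact hv1 (congrArg Subtype.val h1)
  have hroot : ∀ v ∈ V, ∃ t : T, ((t ^ 2 ^ (e - 1) : T) : G) = v := by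
    obtain ⟨t₀, ht₀⟩ : ∃ t : T, t ^ 2 ^ (e - 1) ≠ 1 := by
      by_contra hc
      push Not at hc
      have := Monoid.exponent_dvd_of_forall_pow_eq_one hc
      rw [he, Nat.pow_dvd_pow_iff_le_right one_lt_two] at this
      omega
    intro v hv
    by_cases hv1 : v = 1
    · exact ⟨1, by simp [hv1]⟩
    have hu : ((t₀ ^ 2 ^ (e - 1) : T) : G) ∈ V := by
      rw [← h.invol, ← Subgroup.coe_mul, ← pow_add, ← two_mul, ← pow_succ',
        Nat.sub_add_cancel he0, hexp]
      rfl
    obtain ⟨i, hi⟩ := hgtr _ hu v hv (fun e' => ht₀ (Subtype.ext e')) hv1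
    refine ⟨ψ ⟨g₁ ^ i, N.pow_mem hg₁ i⟩ t₀, ?_⟩
    rw [← map_pow, hψ]
    exact hi
  have hrootT : ∀ v : V, ∃ t : T, t ^ 2 ^ (e - 1) = ⟨v, hVT v.2⟩ := fun v => by
    obtain ⟨t, ht⟩ := hroot v v.2
    exact ⟨t, Subtype.ext ht⟩
  have hinv : ∀ c : T, c * c = 1 → ∃ v : V, c = ⟨v, hVT v.2⟩ := fun c hc =>
    ⟨⟨c, (h.invol c).1 (congrArg Subtype.val hc)⟩, rfl⟩
  -- it suffices to make a square trivial
  have hfin : ∀ x : N, MulAut.conjNormal (x : G) ≠ (1 : MulAut V) → ∀ y : T, (y : G) = (x : G) * x →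
      (∃ t : T, y * ψ x t * t = 1) → False := by
    intro x hx y hy ⟨t, ht⟩
    have hψ2 : ψ x (ψ x t) = t := Subtype.ext (by
      rw [hψ, hψ, show (x : G) * ((x : G) * t * (x : G)⁻¹) * (x : G)⁻¹ =
        ((x : G) * x) * t * ((x : G) * x)⁻¹ by group, ← hy, habel _ y.2 _ t.2, mul_inv_cancel_right])
    have h1 : ((x : G) * t) * ((x : G) * t) = 1 := by
      have h2 : ((x : G) * t) * ((x : G) * t) = (y : G) * (((x : G)⁻¹ * t * x) * t) := by
        rw [hy]; group
      have h3 : (x : G)⁻¹ * t * x = (ψ x t : T) := by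
        conv_lhs => rw [← hψ2, hψ]
        group
      rw [h2, h3, ← mul_assoc]
      exact congrArg Subtype.val ht
    have h4 : (x : G) * t ∈ C := hVC ((h.invol _).1 h1)
    refine hx (MonoidHom.mem_ker.1 ?_)
    rw [ker_conjNormal]
    have := C.mul_mem h4 (C.inv_mem (hTC t.2))
    rwa [mul_inv_cancel_right] at this
  rcases eq_or_ne n 3 with hn | hn
  · -- three-dimensional
    obtain ⟨f⟩ := exists_mulEquiv hV2 (ZMod 2 × ZMod 2 × ZMod 2) m3_add_self (by
      rw [h.card, hn]; simp [Nat.card_prod, Nat.card_zmod])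
    let τ := transport f
    obtain ⟨ga, hga, hgA⟩ := hlift (τ m3A)
    obtain ⟨gb, hgb, hgB⟩ := hlift (τ m3B)
    set w₀ : N := ⁅(⟨ga, hga⟩ : N), (⟨gb, hgb⟩ : N)⁆ with hw₀
    have hw₀S : MulAut.conjNormal (w₀ : G) = τ m3S := by
      rw [hw₀, commutatorElement_def]
      simp only [Subgroup.coe_mul, InvMemClass.coe_inv, map_mul, map_inv, hgA, hgB, m3S]
    obtain ⟨E, K, hE, hK⟩ := exists_two_part (w₀ : G) 2
    set w : N := w₀ ^ E
    have hS4 : (τ m3S) ^ 2 ^ 2 = 1 := by
      rw [← map_pow, show m3S ^ 2 ^ 2 = 1 from MulEquiv.ext fun x => m3S_four x, map_one]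
    have hwS : MulAut.conjNormal (w : G) = τ m3S := by
      rw [show (w : G) = (w₀ : G) ^ E from SubmonoidClass.coe_pow _ _, map_pow, hw₀S]
      exact pow_of_modEq hS4 hE
    have hy : (w : G) ^ 4 ∈ T := htwoT _ (N.pow_mem w.2 4) K
      (by rw [map_pow, hwS]; exact hS4)
      (by
        rw [← pow_mul, mul_comm, pow_mul, show (w : G) ^ 2 ^ K = 1 from by
          rw [show (w : G) = (w₀ : G) ^ E from SubmonoidClass.coe_pow _ _]; exact hK, one_pow])
    set σ := ψ w
    have hσ : σ ∈ commutator (MulAut T) := by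
      change ψ (w₀ ^ E) ∈ _
      rw [map_pow, hw₀, map_commutatorElement]
      exact Subgroup.pow_mem _ (Subgroup.commutator_mem_commutator (mem_top _) (mem_top _)) _
    have hσ4 : ∀ t, σ (σ (σ (σ t))) = t := fun t => Subtype.ext (by
      simp only [σ, hψ]
      rw [show (w : G) * ((w : G) * ((w : G) * ((w : G) * t * (w : G)⁻¹) * (w : G)⁻¹) * (w : G)⁻¹) *
        (w : G)⁻¹ = (w : G) ^ 4 * t * ((w : G) ^ 4)⁻¹ by
          rw [pow_succ, pow_succ, pow_succ, pow_one]; group, habel _ hy _ t.2,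
        mul_inv_cancel_right])
    set v : V := f.symm (m3 1 0 0) with hv
    let ι : V →* T := Subgroup.inclusion hVT
    have hσι : ∀ u : V, σ (ι u) = ι (τ m3S u) := fun u => by
      change ψ w ⟨u, hVT u.2⟩ = _
      rw [hψV]
      exact Subtype.ext (by rw [hwS]; rfl)
    have hv1 : f (τ m3S v) = m3S (m3 1 0 0) := by
      rw [transport_apply, hv, MulEquiv.apply_symm_apply]
    have hv2 : f (τ m3S (τ m3S v)) = m3S (m3S (m3 1 0 0)) := by
      rw [transport_apply, hv1]
    have hv0 : f v = m3 1 0 0 := f.apply_symm_apply _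
    have hιw : ∀ i j k : ℕ, ι (v ^ i * τ m3S v ^ j * τ m3S (τ m3S v) ^ k) =
        ι v ^ i * ι (τ m3S v) ^ j * ι (τ m3S (τ m3S v)) ^ k := fun i j k => by
      rw [map_mul, map_mul, map_pow, map_pow, map_pow]
    obtain ⟨t₀, ht₀⟩ := hrootT v
    obtain ⟨t, ht⟩ := exists_norm_three e he0 hexp σ hσ hσ4 (v := ι v) ⟨t₀, ht₀⟩
      (fun c hc => by
        obtain ⟨u, rfl⟩ := hinv c hc
        obtain ⟨i, j, k, hijk⟩ := m3S_span (f u)
        refine ⟨i, j, k, ?_⟩
        change ι u = _
        rw [hσι, hσι, ← hιw]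
        refine congrArg ι (f.injective ?_)
        rw [map_mul, map_mul, map_pow, map_pow, map_pow, hv0, hv1, hv2]
        exact hijk)
      (fun i j k hijk => by
        rw [hσι, hσι, ← hιw] at hijk
        have h1 : f (v ^ i * τ m3S v ^ j * τ m3S (τ m3S v) ^ k) = 1 := by
          rw [(Subgroup.inclusion_injective hVT) (hijk.trans (map_one ι).symm), map_one]
        rw [map_mul, map_mul, map_pow, map_pow, map_pow, hv0, hv1, hv2] at h1
        rw [← Nat.mod_add_div i 2, ← Nat.mod_add_div j 2, ← Nat.mod_add_div k 2] at h1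
        simp only [pow_add, pow_mul, m3_sq, one_pow, mul_one] at h1
        obtain ⟨a1, a2, a3⟩ := m3S_ind ⟨i % 2, Nat.mod_lt _ two_pos⟩ ⟨j % 2, Nat.mod_lt _ two_pos⟩
          ⟨k % 2, Nat.mod_lt _ two_pos⟩ h1
        exact ⟨Nat.even_iff.2 (congrArg Fin.val a1), Nat.even_iff.2 (congrArg Fin.val a2),
          Nat.even_iff.2 (congrArg Fin.val a3)⟩)
      (y := ⟨_, hy⟩) (Subtype.ext (by
        simp only [σ, hψ]
        group))
    refine hfin (w * w) ?_ ⟨_, hy⟩ ?_ ⟨t, ?_⟩
    · rw [Subgroup.coe_mul, map_mul, hwS]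
      intro e'
      have := congrArg (fun φ : MulAut V => f (φ (f.symm (m3 0 0 1)))) e'
      simp only [MulAut.mul_apply, MulAut.one_apply, τ, transport_apply,
        MulEquiv.apply_symm_apply] at this
      exact m3S_sq this
    · change (w : G) ^ 4 = _
      rw [Subgroup.coe_mul, pow_succ, pow_succ, pow_succ, pow_one]; group
    · rw [map_mul]; exact ht
  -- dimension at least five
  obtain ⟨m, rfl⟩ : ∃ m, n = m + 2 := ⟨n - 2, by omega⟩
  have hm2 : 2 ≤ m := by omega
  obtain ⟨f⟩ := exists_mulEquiv hV2 ((ZMod 2 × ZMod 2) × GaloisField 2 m) (fun x => by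
    obtain ⟨⟨a, b⟩, c⟩ := x
    simp [CharTwo.add_self_eq_zero]) (by
      rw [h.card, Nat.card_prod, Nat.card_prod, GaloisField.card 2 m (by omega), Nat.card_zmod,
        pow_add]
      ring)
  let τ := transport f
  haveI : Finite (GaloisField 2 m) := inferInstance
  obtain ⟨z, hz1⟩ : ∃ z : (GaloisField 2 m)ˣ, z ≠ 1 := by
    by_contra hc
    push Not at hc
    haveI : Subsingleton (GaloisField 2 m)ˣ := ⟨fun a b => by rw [hc a, hc b]⟩
    have h1 := Nat.card_units (GaloisField 2 m)
    rw [Nat.card_unique, GaloisField.card 2 m (by omega)] at h1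
    have : 2 ^ 2 ≤ 2 ^ m := Nat.pow_le_pow_right two_pos hm2
    omega
  have hzodd : Odd (orderOf z) := by
    refine Odd.of_dvd_nat ?_ (orderOf_dvd_natCard z)
    rw [Nat.card_units, GaloisField.card 2 m (by omega)]
    exact Nat.Even.sub_odd Nat.one_le_two_pow ((Nat.even_pow' (by omega)).2 even_two) odd_one
  set A := bigA m
  set R := bigR m z
  have hAR : A * R = R * A := MulEquiv.ext fun x => rfl
  have hA2 : A ^ 2 = 1 := MulEquiv.ext fun x => rfl
  obtain ⟨g, hg, hgφ⟩ := hlift (τ (A * R))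
  set K := (orderOf g).factorization 2
  set m₁ := orderOf g / 2 ^ K with hm₁
  have hm₁odd : Odd m₁ := Nat.odd_iff.2 (Nat.two_dvd_ne_zero.1
    (Nat.not_dvd_ordCompl Nat.prime_two (orderOf_pos g).ne'))
  have hgK : g ^ (2 ^ K * m₁) = 1 := by
    rw [Nat.ordProj_mul_ordCompl_eq_self, pow_orderOf_eq_one]
  have hτinj : ∀ B : MulAut (MBig m), τ B = 1 → B = 1 := fun B hB => MulEquiv.ext fun x => by
    have := congrArg (fun φ : MulAut V => f (φ (f.symm x))) hB
    simp only [MulAut.one_apply, τ, transport_apply, MulEquiv.apply_symm_apply] at this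
    exact this
  have hRm : R ^ m₁ = 1 := by
    have h1 : (A * R) ^ (2 ^ K * m₁) = 1 := hτinj _ (by
      rw [map_pow, ← hgφ, ← map_pow, hgK, map_one])
    have h2 : R ^ (2 * (2 ^ K * m₁)) = 1 := by
      have := congrArg (· ^ 2) h1
      simp only [one_pow] at this
      rwa [← pow_mul, mul_comm, (show Commute A R from hAR).mul_pow, pow_mul A, hA2, one_pow,
        one_mul] at this
    have hd : orderOf R ∣ m₁ := by
      have hRodd : Odd (orderOf R) := hzodd.of_dvd_nat (orderOf_map_dvd (bigR m) z)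
      refine Nat.Coprime.dvd_of_dvd_mul_left (k := orderOf R) (n := m₁) (m := 2 * 2 ^ K) ?_ ?_
      · rw [← pow_succ']
        exact (Nat.coprime_two_right.2 hRodd).pow_right _
      · rw [mul_assoc]; exact orderOf_dvd_of_pow_eq_one h2
    exact orderOf_dvd_iff_pow_eq_one.1 hd
  set x : N := ⟨g ^ m₁, N.pow_mem hg _⟩
  set r : N := ⟨g ^ (2 * 2 ^ K), N.pow_mem hg _⟩
  have hxA : MulAut.conjNormal (x : G) = τ A := by
    change MulAut.conjNormal (g ^ m₁) = _
    rw [map_pow, hgφ, ← map_pow, (show Commute A R from hAR).mul_pow, hRm, mul_one]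
    obtain ⟨j, hj⟩ := hm₁odd
    rw [hj, pow_succ, pow_mul, hA2, one_pow, one_mul]
  have hrR : MulAut.conjNormal (r : G) = τ (R ^ (2 * 2 ^ K)) := by
    change MulAut.conjNormal (g ^ (2 * 2 ^ K)) = _
    rw [map_pow, hgφ, ← map_pow, (show Commute A R from hAR).mul_pow, pow_mul A, hA2, one_pow, one_mul]
  have hy : (x : G) * x ∈ T := htwoT _ (N.mul_mem x.2 x.2) K
    (by rw [map_mul, hxA, ← map_mul, ← pow_two, hA2, map_one])
    (by
      change (g ^ m₁ * g ^ m₁) ^ 2 ^ K = 1
      rw [← pow_two, ← pow_mul, ← pow_mul, show m₁ * (2 * 2 ^ K) = 2 ^ K * m₁ * 2 by ring, pow_mul,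
        hgK, one_pow])
  set ρ := ψ r
  set χ := ψ x
  let ι : V →* T := Subgroup.inclusion hVT
  have hχι : ∀ u : V, χ (ι u) = ι (τ A u) := fun u => by
    change ψ x ⟨u, hVT u.2⟩ = _
    rw [hψV]
    exact Subtype.ext (by rw [hxA]; rfl)
  have hρι : ∀ u : V, ρ (ι u) = ι (τ (R ^ (2 * 2 ^ K)) u) := fun u => by
    change ψ r ⟨u, hVT u.2⟩ = _
    rw [hψV]
    exact Subtype.ext (by rw [hrR]; rfl)
  have hRk : ∀ (k : ℕ) (q : ZMod 2 × ZMod 2) (c : GaloisField 2 m),
      (R ^ k) (mBig q c) = mBig q ((z : GaloisField 2 m) ^ k * c) := by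
    intro k q c
    simp only [R]
    rw [← map_pow, bigR_apply, Units.val_pow_eq_pow_val]
  set v : V := f.symm (mBig (1, 0) 0) with hv
  have hfv : f v = mBig (1, 0) 0 := f.apply_symm_apply _
  have hfAv : f (τ A v) = mBig (0, 1) 0 := by
    rw [transport_apply, hfv]; rfl
  obtain ⟨t₀, ht₀⟩ := hrootT v
  obtain ⟨t, ht⟩ := exists_norm_two e he0 hexp ρ χ hm₁odd
    (by
      rw [← map_pow]
      have : r ^ m₁ = 1 := Subtype.ext (by
        rw [SubmonoidClass.coe_pow]
        change (g ^ (2 * 2 ^ K)) ^ m₁ = 1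
        rw [← pow_mul, mul_assoc, mul_comm, pow_mul, hgK, one_pow])
      rw [this, map_one])
    (by
      rw [← map_mul, ← map_mul]
      congr 1
      exact Subtype.ext ((Commute.pow_pow_self g _ _).eq))
    (fun t => Subtype.ext (by
      simp only [χ, hψ]
      rw [show (x : G) * ((x : G) * t * (x : G)⁻¹) * (x : G)⁻¹ = ((x : G) * x) * t * ((x : G) * x)⁻¹ by
        group, habel _ hy _ t.2, mul_inv_cancel_right]))
    (v := ι v)
    (by
      rw [hρι]
      refine congrArg ι (f.injective ?_)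
      rw [transport_apply, hfv, hRk, mul_zero])
    (by rw [← map_mul, hV2, map_one])
    (fun e' => by
      rw [hχι] at e'
      have := congrArg f ((Subgroup.inclusion_injective hVT) e')
      rw [hfAv, hfv] at this
      have := congrArg (fun q : MBig m => q.toAdd.1.1) this
      exact zero_ne_one this)
    ⟨t₀, ht₀⟩
    (fun c hc hρc => by
      obtain ⟨u, rfl⟩ := hinv c hc
      change ρ (ι u) = ι u at hρc
      rw [hρι] at hρc
      have h1 := congrArg f ((Subgroup.inclusion_injective hVT) hρc)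
      obtain ⟨⟨q1, q2⟩, q3, hq⟩ : ∃ q c, f u = mBig q c := ⟨_, _, rfl⟩
      rw [transport_apply, hq, hRk] at h1
      have h2 : (z : GaloisField 2 m) ^ (2 * 2 ^ K) * q3 = q3 :=
        congrArg (fun q : MBig m => q.toAdd.2) h1
      have hq3 : q3 = 0 := by
        by_contra hq3
        refine hz1 (orderOf_eq_one_iff.1 ?_)
        have hzk : z ^ (2 * 2 ^ K) = 1 := Units.ext (by
          rw [Units.val_pow_eq_pow_val, Units.val_one]
          exact (mul_eq_right₀ hq3).1 h2)
        rw [← pow_succ'] at hzk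
        obtain ⟨j, -, hj⟩ := (Nat.dvd_prime_pow Nat.prime_two).1 (orderOf_dvd_of_pow_eq_one hzk)
        rcases j with _ | j
        · exact hj
        · rw [hj] at hzodd
          rw [Nat.odd_pow_iff (Nat.succ_ne_zero j)] at hzodd
          exact absurd hzodd (by decide)
      subst hq3
      rw [hχι, ← map_mul]
      change ι u = 1 ∨ ι u = ι v ∨ ι u = ι (τ A v) ∨ ι u = ι (v * τ A v)
      rcases zmod2_sq_cases (q1, q2) with e' | e' | e' | e' <;> rw [e'] at hq
      · exact Or.inl (by rw [(f.injective (hq.trans (map_one f).symm) : u = 1), map_one])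
      · exact Or.inr (Or.inl (congrArg ι (f.injective (hq.trans hfv.symm))))
      · exact Or.inr (Or.inr (Or.inl (congrArg ι (f.injective (hq.trans hfAv.symm)))))
      · refine Or.inr (Or.inr (Or.inr (congrArg ι (f.injective ?_))))
        rw [hq, map_mul, hfv, hfAv]
        exact congrArg Multiplicative.ofAdd (Prod.ext rfl (add_zero (0 : GaloisField 2 m)).symm))
    (y := ⟨_, hy⟩)
    (Subtype.ext (by
      simp only [ρ, hψ]
      change g ^ (2 * 2 ^ K) * (g ^ m₁ * g ^ m₁) * (g ^ (2 * 2 ^ K))⁻¹ = g ^ m₁ * g ^ m₁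
      rw [← pow_add, ← pow_add, add_comm, pow_add, mul_inv_cancel_right]))
    (Subtype.ext (by simp only [χ, hψ]; group))
  refine hfin x ?_ ⟨_, hy⟩ rfl ⟨t, ht⟩
  rw [hxA]
  intro e'
  have := congrArg f (congrArg (fun φ : MulAut V => φ v) e')
  simp only [MulAut.one_apply] at this
  rw [hfAv, hfv] at this
  have := congrArg (fun q : MBig m => q.toAdd.1.1) this
  exact zero_ne_one this

end Cfsg.Agent.Grp.Pyramidal
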