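import Mathlib

/-!
# The dimension of the inverted space of an involution in the derived group is even
-/

set_option autoImplicit false
set_option linter.style.haveILetI false
set_option linter.unusedSectionVars false

namespace Cfsg.Agent.Grp.Pyramidal

/-- If `t` lies in the derived group and acts as an involution, its `-1`-space has even dimension. -/
theorem even_dim_neg {G A : Type*} [Group G] [AddCommGroup A] [Finite A] {p : ℕ} [hp : Fact p.Prime]
    (hp2 : p ≠ 2) [Module (ZMod p) A] (ρ : G →* Module.End (ZMod p) A) {t : G}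
    (ht : t ∈ commutator G) (ht2 : ρ t * ρ t = 1) {d : ℕ}
    (hd : Nat.card {a : A // ρ t a = -a} = p ^ d) : Even d := by
  classical
  haveI : Module.Finite (ZMod p) A := Module.Finite.of_finite
  have h2 : (2 : ZMod p) ≠ 0 := by
    intro h
    have h' : ((2 : ℕ) : ZMod p) = 0 := by exact_mod_cast h
    rw [ZMod.natCast_eq_zero_iff] at h'
    exact hp2 ((Nat.prime_dvd_prime_iff_eq hp.out Nat.prime_two).1 h')
  set f := ρ t with hf
  have hff : ∀ a, f (f a) = a := fun a => DFunLike.congr_fun ht2 a
  let P : Submodule (ZMod p) A := LinearMap.ker (f - 1)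
  let M : Submodule (ZMod p) A := LinearMap.ker (f + 1)
  have hP : ∀ a, a ∈ P ↔ f a = a := fun a => by simp [P, sub_eq_zero]
  have hM : ∀ a, a ∈ M ↔ f a = -a := fun a => by simp [M, add_eq_zero_iff_eq_neg]
  have hc : IsCompl P M := by
    refine IsCompl.of_eq ?_ ?_
    · refine (Submodule.eq_bot_iff _).2 fun a ha => ?_
      obtain ⟨h1, h3⟩ := Submodule.mem_inf.1 ha
      rw [hP] at h1
      rw [hM, h1] at h3
      have h4 : (2 : ZMod p) • a = 0 := by rw [two_smul]; exact eq_neg_iff_add_eq_zero.1 h3
      exact (smul_eq_zero.1 h4).resolve_left h2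
    · refine eq_top_iff.2 fun a _ => ?_
      have h5 : a = (2⁻¹ : ZMod p) • (a + f a) + (2⁻¹ : ZMod p) • (a - f a) := by
        rw [← smul_add, show a + f a + (a - f a) = (2 : ZMod p) • a by rw [two_smul]; abel, smul_smul,
          inv_mul_cancel₀ h2, one_smul]
      rw [h5]
      refine Submodule.add_mem_sup ((hP _).2 ?_) ((hM _).2 ?_)
      · rw [map_smul, map_add, hff, add_comm]
      · rw [map_smul, map_sub, hff, ← smul_neg, neg_sub]
  let E := Submodule.prodEquivOfIsCompl P M hc
  have hfE : f = (E : (P × M) →ₗ[ZMod p] A) ∘ₗ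
      (LinearMap.prodMap LinearMap.id ((-1 : ZMod p) • LinearMap.id)) ∘ₗ
        (E.symm : A →ₗ[ZMod p] P × M) := by
    refine LinearMap.ext fun a => ?_
    obtain ⟨⟨u, w⟩, rfl⟩ := E.surjective a
    simp only [LinearMap.coe_comp, Function.comp_apply, LinearEquiv.coe_coe, E.symm_apply_apply]
    simp [E, Submodule.coe_prodEquivOfIsCompl', (hP _).1 u.2, (hM _).1 w.2]
  have hdet : LinearMap.det f = (-1 : ZMod p) ^ Module.finrank (ZMod p) M := by
    rw [hfE, LinearMap.det_conj, LinearMap.det_prodMap, LinearMap.det_id, LinearMap.det_smul,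
      LinearMap.det_id, one_mul, mul_one]
  let dh : G →* ZMod p := LinearMap.det.comp ρ
  have h1 : LinearMap.det f = 1 := by
    have h := Abelianization.commutator_subset_ker dh.toHomUnits ht
    have h' := congrArg Units.val (MonoidHom.mem_ker.1 h)
    simpa [dh] using h'
  have hdim : Module.finrank (ZMod p) M = d := by
    refine Nat.pow_right_injective hp.out.two_le ?_
    change p ^ Module.finrank (ZMod p) M = p ^ d
    rw [← hd, Nat.card_congr (Equiv.subtypeEquivRight fun a => (hM a).symm),
      Module.natCard_eq_pow_finrank (K := ZMod p), Nat.card_zmod]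
  rw [h1, hdim] at hdet
  by_contra hodd
  rw [(Nat.not_even_iff_odd.1 hodd).neg_one_pow, eq_neg_iff_add_eq_zero, one_add_one_eq_two] at hdet
  exact h2 hdet

end Cfsg.Agent.Grp.Pyramidal
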