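import Mathlib
import Cfsg.Agent.S4037
import Cfsg.Agent.S0144
import Cfsg.Agent.Lib.Grp.Solvable
import Cfsg.Agent.Lib.Transfer.FiveOrbits.Normalizer
import Cfsg.Agent.Lib.Grp.Pyramidal.Det
import Cfsg.Agent.Lib.Grp.Pyramidal.TopCase

/-!
# Groups with one class of `p ^ k` involutions are solvable when `k` is odd or `p ^ k = 9`

The transitive subgroups of `GL(n, 2)` for a Mersenne prime `2 ^ n - 1` enter as a hypothesis.
-/

set_option autoImplicit false
set_option linter.style.haveILetI false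
set_option linter.unusedSectionVars false

namespace Cfsg.Agent.Grp.Pyramidal

open Subgroup

/-- The transitive linear groups on `2 ^ n - 1` points, `2 ^ n - 1` prime. -/
def TransitiveMersenne : Prop :=
  ∀ (W : Type) [AddCommGroup W] [Module (ZMod 2) W] [Finite W] (n : ℕ),
    Module.finrank (ZMod 2) W = n → (2 ^ n - 1).Prime → ∀ H : Subgroup (W ≃ₗ[ZMod 2] W),
    (∀ v w : W, v ≠ 0 → w ≠ 0 → ∃ h ∈ H, h v = w) →
      ((IsCyclic ↥H ∧ Nat.card ↥H = 2 ^ n - 1) ∨
       (Nat.card ↥H = n * (2 ^ n - 1) ∧ ∃ C : Subgroup (W ≃ₗ[ZMod 2] W), C ≤ H ∧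
          (C.subgroupOf H).Normal ∧ IsCyclic ↥C ∧ Nat.card ↥C = 2 ^ n - 1) ∨
       H = ⊤)

/-- `2 ^ n = p ^ k + 1` forces `k = 1`. -/
theorem exponent_eq_one {p k n : ℕ} (hp : p.Prime) (hp2 : p ≠ 2) (hk : 1 ≤ k)
    (h : 2 ^ n = p ^ k + 1) : k = 1 := by
  have hp3 : 3 ≤ p := by have := hp.two_le; omega
  have hodd : Odd p := hp.odd_of_ne_two hp2
  rcases Nat.even_or_odd k with ⟨j, hj⟩ | hkodd
  · exfalso
    obtain ⟨a, ha⟩ := hodd.pow (n := j)
    have h4 : p ^ k = 4 * (a * a + a) + 1 := by rw [hj, pow_add, ha]; ring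
    have hn : 2 ≤ n := by
      by_contra hlt
      have h5 : 2 ^ n ≤ 2 ^ 1 := Nat.pow_le_pow_right two_pos (by omega)
      have h6 : 3 ≤ p ^ k := hp3.trans (Nat.le_self_pow (by omega) p)
      omega
    obtain ⟨i, rfl⟩ : ∃ i, n = i + 2 := ⟨n - 2, by omega⟩
    rw [pow_add, h4] at h
    omega
  · by_contra hk1
    have hgeom : ((p : ℤ) + 1) * (∑ i ∈ Finset.range k, (-(p : ℤ)) ^ i) = (p : ℤ) ^ k + 1 := by
      have := mul_neg_geom_sum (-(p : ℤ)) k
      rw [hkodd.neg_pow] at this
      linear_combination this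
    set S := ∑ i ∈ Finset.range k, (-(p : ℤ)) ^ i
    have hpar : ∀ m : ℕ, Odd (∑ i ∈ Finset.range m, (-(p : ℤ)) ^ i) ↔ Odd m := by
      intro m
      induction m with
      | zero => simp
      | succ m ih =>
        have h1 : Odd ((-(p : ℤ)) ^ m) := ((Int.odd_coe_nat p).2 hodd).neg.pow
        rw [Finset.sum_range_succ, Int.odd_add, ih, Nat.odd_add_one]
        have h2 : ¬ Even ((-(p : ℤ)) ^ m) := Int.not_even_iff_odd.2 h1
        tauto
    have hSodd : Odd S := (hpar k).2 hkodd
    have hdvd : S.natAbs ∣ 2 ^ n := ⟨p + 1, by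
      have := congrArg Int.natAbs hgeom
      rw [Int.natAbs_mul, ← Nat.cast_pow, ← Nat.cast_one, ← Nat.cast_add, ← Nat.cast_add,
        Int.natAbs_natCast, Int.natAbs_natCast, ← h] at this
      rw [← this, mul_comm]⟩
    obtain ⟨j, -, hj⟩ := (Nat.dvd_prime_pow Nat.prime_two).1 hdvd
    have hj0 : j = 0 := by
      by_contra hne
      have h7 := Int.natAbs_odd.2 hSodd
      rw [hj, Nat.odd_pow_iff hne] at h7
      exact absurd h7 (by decide)
    rw [hj0, pow_zero] at hj
    have h8 := congrArg Int.natAbs hgeom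
    rw [Int.natAbs_mul, hj, mul_one, ← Nat.cast_pow, ← Nat.cast_one, ← Nat.cast_add, ← Nat.cast_add,
      Int.natAbs_natCast, Int.natAbs_natCast] at h8
    have h9 : p ^ 2 ≤ p ^ k := Nat.pow_le_pow_right hp.pos (by omega)
    nlinarith

/-- The automorphism group of a group of order 4 or 9 of prime exponent is solvable. -/
theorem isSolvable_mulAut {A : Type*} [Group A] [Finite A] (h : Nat.card A = 4 ∨ Nat.card A = 9) :
    Group.IsSolvable (MulAut A) := by
  classical
  haveI : Finite (MulAut A) := Finite.of_injective (fun φ : MulAut A => (φ : A → A)) DFunLike.coe_injective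
  refine Transfer.FiveOrbits.isSolvable_of_two_primes Nat.prime_two Nat.prime_three fun l hl hdvd => ?_
  haveI := Fact.mk hl
  obtain ⟨φ, hφ⟩ := exists_prime_orderOf_dvd_card' l hdvd
  let F : Subgroup A :=
    { carrier := {a | φ a = a}
      one_mem' := map_one φ
      mul_mem' := fun {a b} ha hb => by
        change φ (a * b) = a * b
        rw [map_mul, show φ a = a from ha, show φ b = b from hb]
      inv_mem' := fun {a} ha => by change φ a⁻¹ = a⁻¹; rw [map_inv, show φ a = a from ha] }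
  have hP : IsPGroup l (Subgroup.zpowers φ) :=
    IsPGroup.of_card (n := 1) (by rw [Nat.card_zpowers, hφ, pow_one])
  have hmod := hP.card_modEq_card_fixedPoints (α := A)
  have hfix : Nat.card (MulAction.fixedPoints (Subgroup.zpowers φ) A) = Nat.card F := by
    refine Nat.card_congr (Equiv.subtypeEquivRight fun a => ?_)
    constructor
    · intro ha; exact ha ⟨φ, Subgroup.mem_zpowers φ⟩
    · rintro ha ⟨ψ, i, rfl⟩
      change φ • a = a at ha
      exact MulAction.mem_stabilizer_iff.1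
        (Subgroup.zpow_mem (MulAction.stabilizer (MulAut A) a) (MulAction.mem_stabilizer_iff.2 ha) i)
  rw [hfix] at hmod
  have hFne : Nat.card F ≠ Nat.card A := by
    intro e
    have hφ1 : φ = 1 := MulEquiv.ext fun a =>
      (show a ∈ F from (Subgroup.eq_top_of_card_eq F e) ▸ Subgroup.mem_top a)
    rw [hφ1, orderOf_one] at hφ
    exact hl.one_lt.ne hφ
  have hFd : Nat.card F ∣ Nat.card A := Subgroup.card_subgroup_dvd_card F
  have hle : Nat.card F ≤ Nat.card A := Subgroup.card_le_card_group F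
  have hd := (Nat.modEq_iff_dvd' hle).1 hmod.symm
  have key : ∀ a : ℕ, (a = 2 ∨ a = 3 ∨ a = 6 ∨ a = 8) → l ∣ a → l = 2 ∨ l = 3 := by
    rintro a (rfl | rfl | rfl | rfl) hla
    · exact Or.inl ((Nat.prime_dvd_prime_iff_eq hl Nat.prime_two).1 hla)
    · exact Or.inr ((Nat.prime_dvd_prime_iff_eq hl Nat.prime_three).1 hla)
    · rcases hl.dvd_mul.1 (show l ∣ 2 * 3 from hla) with h' | h'
      · exact Or.inl ((Nat.prime_dvd_prime_iff_eq hl Nat.prime_two).1 h')
      · exact Or.inr ((Nat.prime_dvd_prime_iff_eq hl Nat.prime_three).1 h')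
    · exact Or.inl ((Nat.prime_dvd_prime_iff_eq hl Nat.prime_two).1
        (hl.dvd_of_dvd_pow (show l ∣ 2 ^ 3 from hla)))
  refine key (Nat.card A - Nat.card F) ?_ hd
  rcases h with h | h <;> rw [h] at hFd hFne hle ⊢ <;>
    have := Nat.le_of_dvd (by norm_num) hFd <;> interval_cases hc : Nat.card F <;> omega

variable {G : Type} [Group G] [Finite G]

theorem isSolvable_of_range {H : Type*} [Group H] (f : G →* H) [hk : Group.IsSolvable f.ker]
    [hr : Group.IsSolvable f.range] : Group.IsSolvable G :=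
  Group.isSolvable_of_ker_le_range f.ker.subtype f.rangeRestrict (fun x hx =>
    ⟨⟨x, by rwa [MonoidHom.ker_rangeRestrict] at hx⟩, rfl⟩)

section Linear

open scoped IsMulCommutative

variable {V : Subgroup G} {p n : ℕ} [V.Normal] [IsMulCommutative V]
  [Module (ZMod 2) (Additive V)]

theorem conj_range_cases (h : Inv G V p n) (hT : TransitiveMersenne) :
    Group.IsSolvable (MulAut.conjNormal : G →* MulAut V).range ∨
      Function.Surjective (MulAut.conjNormal : G →* MulAut V) := by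
  classical
  let Φ : MulAut V →* (Additive V ≃ₗ[ZMod 2] Additive V) :=
    { toFun := fun φ =>
        { (MulEquiv.toAdditive φ) with
          map_smul' := fun c x => ZMod.map_smul (MulEquiv.toAdditive φ).toAddMonoidHom c x }
      map_one' := LinearEquiv.ext fun _ => rfl
      map_mul' := fun _ _ => LinearEquiv.ext fun _ => rfl }
  have hΦinj : Function.Injective Φ := fun φ ψ e => MulEquiv.ext fun v =>
    congrArg Additive.toMul (LinearEquiv.congr_fun e (Additive.ofMul v))
  have hΦsurj : Function.Surjective Φ := fun L =>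
    ⟨(MulEquiv.toAdditive (G := V) (H := V)).symm L.toAddEquiv, LinearEquiv.ext fun _ => rfl⟩
  have hfin : Module.finrank (ZMod 2) (Additive V) = n := by
    haveI : Module.Finite (ZMod 2) (Additive V) := Module.Finite.of_finite
    have h1 := Module.natCard_eq_pow_finrank (K := ZMod 2) (V := Additive V)
    rw [Nat.card_zmod, Nat.card_congr Additive.toMul, h.card] at h1
    exact (Nat.pow_right_injective le_rfl h1).symm
  have hpn : 2 ^ n - 1 = p := by rw [← h.eq]; omega
  set H := (Φ.comp (MulAut.conjNormal : G →* MulAut V)).range with hH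
  have htr : ∀ v w : Additive V, v ≠ 0 → w ≠ 0 → ∃ g ∈ H, g v = w := by
    intro v w hv hw
    obtain ⟨g, hg⟩ := h.trans _ v.toMul.2 _ w.toMul.2
      (fun e => hv (congrArg Additive.ofMul (Subtype.ext e : v.toMul = 1)))
      (fun e => hw (congrArg Additive.ofMul (Subtype.ext e : w.toMul = 1)))
    exact ⟨_, ⟨g, rfl⟩, congrArg Additive.ofMul (Subtype.ext (by
      rw [MulAut.conjNormal_apply]; exact hg) : MulAut.conjNormal g v.toMul = w.toMul)⟩
  have hsolv : Group.IsSolvable H → Group.IsSolvable (MulAut.conjNormal : G →* MulAut V).range :=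
    fun hs => Group.isSolvable_of_isSolvable_injective
      (f := (Φ.comp (MulAut.conjNormal : G →* MulAut V).range.subtype).codRestrict H (by
        rintro ⟨_, g, rfl⟩; exact ⟨g, rfl⟩))
      fun a b e => Subtype.ext (hΦinj (congrArg Subtype.val e))
  rcases hT (Additive V) n hfin (by rw [hpn]; exact h.prime) H htr with ⟨hc, -⟩ | ⟨hcard, C, hCH, hCn, hCc, hCcard⟩ | htop
  · haveI := hc
    exact Or.inl (hsolv inferInstance)
  · refine Or.inl (hsolv ?_)
    haveI := hCn
    haveI := hCc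
    haveI : IsCyclic (C.subgroupOf H) := (Subgroup.subgroupOfEquivOfLe hCH).isCyclic.2 hCc
    have hnp : n.Prime := by
      exact (Nat.prime_of_pow_sub_one_prime (by have := h.two_le; omega)
        (show (2 ^ n - 1).Prime by rw [hpn]; exact h.prime)).2
    haveI : IsCyclic (H ⧸ C.subgroupOf H) := by
      haveI := Fact.mk hnp
      refine isCyclic_of_prime_card (p := n) ?_
      have h1 := Subgroup.card_eq_card_quotient_mul_card_subgroup (C.subgroupOf H)
      rw [hcard, Nat.card_congr (Subgroup.subgroupOfEquivOfLe hCH).toEquiv, hCcard] at h1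
      exact (Nat.eq_of_mul_eq_mul_right (by rw [hpn]; exact h.prime.pos) h1).symm
    exact Group.isSolvable_of_ker_le_range (C.subgroupOf H).subtype
      (QuotientGroup.mk' (C.subgroupOf H)) (fun x hx => ⟨⟨x, (QuotientGroup.eq_one_iff x).1 hx⟩, rfl⟩)
  · refine Or.inr fun φ => ?_
    obtain ⟨g, hg⟩ : Φ φ ∈ H := htop ▸ Subgroup.mem_top _
    exact ⟨g, hΦinj hg⟩

end Linear

theorem Inv.isSolvable {V : Subgroup G} {p n : ℕ} (h : Inv G V p n) (hT : TransitiveMersenne)
    (hO : ∀ K : Subgroup G, K.Normal → Odd (Nat.card K) → K = ⊥) : Group.IsSolvable G := by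
  classical
  haveI := h.normal
  haveI : IsMulCommutative V := ⟨⟨fun a b => Subtype.ext (h.mul_comm_mem a.2 b.2)⟩⟩
  have hC := h.solvable_centralizer hO
  haveI : Group.IsSolvable (MulAut.conjNormal : G →* MulAut V).ker := by rw [ker_conjNormal]; exact hC
  have hnp : n.Prime := by
    have hpn : 2 ^ n - 1 = p := by rw [← h.eq]; omega
    exact (Nat.prime_of_pow_sub_one_prime (by have := h.two_le; omega)
      (show (2 ^ n - 1).Prime by rw [hpn]; exact h.prime)).2
  by_cases hn2 : n = 2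
  · haveI : Group.IsSolvable (MulAut V) := isSolvable_mulAut (Or.inl (by rw [h.card, hn2]; rfl))
    exact isSolvable_of_range (MulAut.conjNormal : G →* MulAut V)
  open scoped IsMulCommutative in
  letI : Module (ZMod 2) (Additive V) := AddCommGroup.zmodModule fun x => by
    rw [two_nsmul]; exact congrArg Additive.ofMul (Subtype.ext ((h.invol _).2 x.toMul.2) : x.toMul * x.toMul = 1)
  rcases conj_range_cases h hT with hs | hs
  · haveI := hs
    exact isSolvable_of_range (MulAut.conjNormal : G →* MulAut V)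
  · exact (h.false_of_surjective hnp hn2 hC hs).elim

theorem carrier_eq_involutions (hcl : ∀ x y : G, orderOf x = 2 → orderOf y = 2 → ∃ g : G, g * x * g⁻¹ = y)
    {x : G} (hx : orderOf x = 2) : (ConjClasses.mk x).carrier = {y : G | orderOf y = 2} := by
  ext y
  rw [ConjClasses.mem_carrier_iff_mk_eq, ConjClasses.mk_eq_mk_iff_isConj, Set.mem_ofPred_eq]
  constructor
  · intro hc
    obtain ⟨g, rfl⟩ := isConj_iff.1 hc.symm
    rwa [Invol.orderOf_conj_eq]
  · intro hy
    exact (isConj_iff.2 (hcl x y hx hy)).symm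

open scoped IsMulCommutative in
theorem conjLinear_even {V : Subgroup G} [V.Normal] [IsMulCommutative V] {p : ℕ} [Fact p.Prime]
    (hp2 : p ≠ 2) [Module (ZMod p) (Additive V)] {t : G} (ht : t ∈ commutator G) (ht2 : t * t = 1)
    {d : ℕ} (hd : Nat.card {v : V // MulAut.conjNormal t v = v⁻¹} = p ^ d) : Even d := by
  classical
  let ρ : G →* Module.End (ZMod p) (Additive V) :=
    { toFun := fun g => (MonoidHom.toAdditive
        (MulAut.conjNormal g : MulAut V).toMonoidHom).toZModLinearMap p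
      map_one' := LinearMap.ext fun x => by
        change Additive.ofMul ((MulAut.conjNormal (1 : G) : MulAut V) x.toMul) = x
        rw [map_one]; rfl
      map_mul' := fun a b => LinearMap.ext fun x => by
        change Additive.ofMul ((MulAut.conjNormal (a * b) : MulAut V) x.toMul) = _
        rw [map_mul]; rfl }
  refine even_dim_neg hp2 ρ ht (by rw [← map_mul, ht2, map_one]) ?_
  rw [← hd]
  exact Nat.card_congr (Equiv.subtypeEquiv Additive.toMul fun a => Iff.rfl)

/-- The forward direction. -/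
theorem isSolvable_of_pyramidal (hT : TransitiveMersenne) {p : ℕ} (hp : p.Prime) (hp2 : p ≠ 2) :
    ∀ (N : ℕ) (G : Type) [Group G] [Finite G], Nat.card G = N → ∀ k : ℕ, (Odd k ∨ p ^ k = 9) →
      Nat.card {x : G // orderOf x = 2} = p ^ k →
      (∀ x y : G, orderOf x = 2 → orderOf y = 2 → ∃ g : G, g * x * g⁻¹ = y) →
      Group.IsSolvable G := by
  intro N
  induction N using Nat.strong_induction_on with
  | _ N ih =>
  intro G _ _ hN k hk hcard hcl
  classical
  haveI := Fact.mk hp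
  by_contra hG
  have hp3 : 3 ≤ p := by have := hp.two_le; omega
  have hpodd : Odd p := hp.odd_of_ne_two hp2
  have hk1 : 1 ≤ k := by
    rcases hk with ⟨a, ha⟩ | ha
    · omega
    · by_contra hlt
      rw [show k = 0 by omega, pow_zero] at ha
      omega
  obtain ⟨⟨t, ht⟩⟩ : Nonempty {x : G // orderOf x = 2} :=
    (Nat.card_pos_iff.1 (hcard ▸ pow_pos hp.pos k)).1
  set M := normalClosure ({t} : Set G)
  have hM : Group.IsSolvable M := Cfsg.Agent.S4037.result t hp k (by
    rw [carrier_eq_involutions hcl ht, ← hcard, ← Nat.card_coe_set_eq]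
    rfl)
  have htM : t ∈ M := subset_normalClosure (Set.mem_singleton t)
  have ht' := orderOf_eq_prime_iff.1 ht
  -- a minimal normal subgroup, of odd order if possible
  obtain ⟨V, hVn, hV1, hVsol, hVmin, hVodd⟩ : ∃ V : Subgroup G, V.Normal ∧ V ≠ ⊥ ∧
      Group.IsSolvable V ∧ (∀ W : Subgroup G, W.Normal → W ≤ V → W = ⊥ ∨ W = V) ∧
      ((∃ K : Subgroup G, K.Normal ∧ Odd (Nat.card K) ∧ K ≠ ⊥) → Odd (Nat.card V)) := by
    obtain ⟨K, hKn, hK1, hKs, hKo⟩ : ∃ K : Subgroup G, K.Normal ∧ K ≠ ⊥ ∧ Group.IsSolvable K ∧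
        ((∃ K : Subgroup G, K.Normal ∧ Odd (Nat.card K) ∧ K ≠ ⊥) → Odd (Nat.card K)) := by
      by_cases hex : ∃ K : Subgroup G, K.Normal ∧ Odd (Nat.card K) ∧ K ≠ ⊥
      · obtain ⟨K, hKn, hKo, hK1⟩ := hex
        exact ⟨K, hKn, hK1, Cfsg.Agent.S0205.result hKo, fun _ => hKo⟩
      · exact ⟨M, normalClosure_normal, fun e => ht'.2 (by rw [e] at htM; exact Subgroup.mem_bot.1 htM),
          hM, fun h => absurd h hex⟩
    obtain ⟨V, ⟨hVn, hVK, hV1⟩, hmin⟩ := Set.exists_min_image
      {W : Subgroup G | W.Normal ∧ W ≤ K ∧ W ≠ ⊥} (fun W => Nat.card W) (Set.toFinite _)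
      ⟨K, hKn, le_rfl, hK1⟩
    refine ⟨V, hVn, hV1, Grp.isSolvable_of_le hVK hKs, fun W hWn hWV => ?_,
      fun hex => (hKo hex).of_dvd_nat (Subgroup.card_dvd_of_le hVK)⟩
    by_cases hW : W = ⊥
    · exact Or.inl hW
    · exact Or.inr (Subgroup.eq_of_le_of_card_ge hWV (hmin W ⟨hWn, hWV.trans hVK, hW⟩))
  haveI := hVn
  obtain ⟨hVc, r, hr, hVr⟩ := Grp.minimal_normal_solvable hVsol hV1 hVmin
  haveI := hVc
  haveI := Fact.mk hr
  have hcomm : ∀ a ∈ V, ∀ b ∈ V, a * b = b * a := fun a ha b hb =>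
    congrArg Subtype.val (mul_comm' (⟨a, ha⟩ : V) ⟨b, hb⟩)
  have hVp : IsPGroup r V := fun x => ⟨1, by rw [pow_one]; exact Subtype.ext (hVr x x.2)⟩
  by_cases hr2 : r = 2
  · -- all involutions lie in `V`
    subst hr2
    have hO : ∀ K : Subgroup G, K.Normal → Odd (Nat.card K) → K = ⊥ := by
      intro K hKn hKo
      by_contra hK1
      have h1 := hVodd ⟨K, hKn, hKo, hK1⟩
      obtain ⟨j, hj⟩ := IsPGroup.iff_card.1 hVp
      rcases j with _ | j
      · exact hV1 (Subgroup.card_eq_one.1 (by simpa using hj))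
      · rw [hj, Nat.odd_pow_iff (Nat.succ_ne_zero j)] at h1
        exact absurd h1 (by decide)
    obtain ⟨v, hv, hv1⟩ : ∃ v ∈ V, v ≠ 1 := by
      by_contra hc
      push Not at hc
      exact hV1 ((Subgroup.eq_bot_iff_forall V).2 hc)
    have hv2 : orderOf v = 2 := orderOf_eq_prime (hVr v hv) hv1
    have hinv : ∀ x : G, x * x = 1 ↔ x ∈ V := fun x => by
      constructor
      · intro hx
        by_cases hx1 : x = 1
        · subst hx1; exact V.one_mem
        obtain ⟨g, rfl⟩ := hcl v x hv2 (orderOf_eq_prime (by rw [pow_two]; exact hx) hx1)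
        exact hVn.conj_mem v hv g
      · intro hx; rw [← pow_two]; exact hVr x hx
    obtain ⟨n, hn⟩ := IsPGroup.iff_card.1 hVp
    have hcount : Nat.card V = p ^ k + 1 := by
      haveI : Fintype V := Fintype.ofFinite _
      have e : Nat.card {x : G // orderOf x = 2} = Nat.card {v : V // v ≠ 1} := Nat.card_congr
        { toFun := fun x => ⟨⟨x.1, (hinv _).1 (by rw [← pow_two]; exact (orderOf_eq_prime_iff.1 x.2).1)⟩,
            fun e => (orderOf_eq_prime_iff.1 x.2).2 (congrArg Subtype.val e)⟩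
          invFun := fun x => ⟨x.1.1, orderOf_eq_prime (hVr _ x.1.2) fun e => x.2 (Subtype.ext e)⟩
          left_inv := fun _ => rfl
          right_inv := fun _ => rfl }
      rw [hcard, Nat.card_eq_fintype_card (α := {v : V // v ≠ 1}), Fintype.card_subtype_compl,
        Fintype.card_subtype_eq, ← Nat.card_eq_fintype_card] at e
      have := (Subgroup.one_lt_card_iff_ne_bot V).2 hV1
      omega
    have hk' : k = 1 := exponent_eq_one hp hp2 hk1 (n := n) (by rw [← hn, hcount])
    subst hk'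
    rw [pow_one] at hcount
    have hn2 : 2 ≤ n := by
      by_contra hlt
      have : 2 ^ n ≤ 2 ^ 1 := Nat.pow_le_pow_right two_pos (by omega)
      omega
    refine hG ((⟨hVn, hinv, hn, hn2, hp, by rw [← hn, hcount], fun a ha b hb ha1 hb1 =>
      hcl a b (orderOf_eq_prime (hVr a ha) ha1) (orderOf_eq_prime (hVr b hb) hb1)⟩ :
      Inv G V p n).isSolvable hT hO)
  -- `V` has odd order
  have hrodd : Odd r := hr.odd_of_ne_two hr2
  let π := QuotientGroup.mk' V
  have hπ : Function.Surjective π := QuotientGroup.mk'_surjective V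
  have hπV : ∀ x : G, π x = 1 ↔ x ∈ V := fun x => QuotientGroup.eq_one_iff x
  have hVno : ∀ x ∈ V, orderOf x ≠ 2 := fun x hx h2 => by
    have hd := orderOf_dvd_of_pow_eq_one (hVr x hx)
    rw [h2] at hd
    exact hr2 ((Nat.prime_dvd_prime_iff_eq Nat.prime_two hr).1 hd).symm
  have hup : ∀ q : G ⧸ V, orderOf q = 2 → ∃ x : G, orderOf x = 2 ∧ π x = q := by
    intro q hq
    obtain ⟨x, rfl⟩ := hπ q
    obtain ⟨hq2, hq1⟩ := orderOf_eq_prime_iff.1 hq
    have hx2 : x ^ 2 ∈ V := (hπV _).1 (by rw [map_pow]; exact hq2)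
    have e : π (x ^ r) = π x := by
      obtain ⟨a, ha⟩ := hrodd
      rw [map_pow, ha, pow_succ, pow_mul, hq2, one_pow, one_mul]
    refine ⟨x ^ r, orderOf_eq_prime ?_ fun e' => hq1 (by rw [← e, e', map_one]), e⟩
    rw [← pow_mul, mul_comm, pow_mul, hVr _ hx2]
  have hdown : ∀ x : G, orderOf x = 2 → orderOf (π x) = 2 := fun x hx =>
    orderOf_eq_prime (by rw [← map_pow, (orderOf_eq_prime_iff.1 hx).1, map_one])
      fun e => hVno x ((hπV x).1 e) hx
  have hclQ : ∀ a b : G ⧸ V, orderOf a = 2 → orderOf b = 2 → ∃ g, g * a * g⁻¹ = b := by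
    intro a b ha hb
    obtain ⟨x, hx, rfl⟩ := hup a ha
    obtain ⟨y, hy, rfl⟩ := hup b hb
    obtain ⟨g, rfl⟩ := hcl x y hx hy
    exact ⟨π g, by rw [map_mul, map_mul, map_inv]⟩
  have hGQ : ¬ Group.IsSolvable (G ⧸ V) := fun hs => hG (by
    haveI := hs
    haveI : Group.IsSolvable V := hVsol
    exact Group.isSolvable_of_ker_le_range V.subtype π (fun x hx => ⟨⟨x, (hπV x).1 hx⟩, rfl⟩))
  have hQlt : Nat.card (G ⧸ V) < N := by
    rw [← hN, Subgroup.card_eq_card_quotient_mul_card_subgroup V]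
    exact lt_mul_of_one_lt_right Nat.card_pos ((Subgroup.one_lt_card_iff_ne_bot V).2 hV1)
  -- the subgroup inverted by `t`
  let W : Subgroup G :=
    { carrier := {v | v ∈ V ∧ t * v * t⁻¹ = v⁻¹}
      one_mem' := ⟨V.one_mem, by simp⟩
      mul_mem' := fun {a b} ha hb => ⟨V.mul_mem ha.1 hb.1, by
        rw [show t * (a * b) * t⁻¹ = t * a * t⁻¹ * (t * b * t⁻¹) by group, ha.2, hb.2, mul_inv_rev,
          hcomm _ (V.inv_mem ha.1) _ (V.inv_mem hb.1)]⟩
      inv_mem' := fun {a} ha => ⟨V.inv_mem ha.1, by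
        rw [show t * a⁻¹ * t⁻¹ = (t * a * t⁻¹)⁻¹ by group, ha.2]⟩ }
  have hWV : W ≤ V := fun v hv => hv.1
  obtain ⟨d, hd⟩ := IsPGroup.iff_card.1 (hVp.to_le hWV)
  haveI : Fintype {q : G ⧸ V // orderOf q = 2} := Fintype.ofFinite _
  have hfib : p ^ k = Nat.card {q : G ⧸ V // orderOf q = 2} * r ^ d := by
    rw [← hcard]
    let F : {x : G // orderOf x = 2} → {q : G ⧸ V // orderOf q = 2} := fun x => ⟨π x.1, hdown _ x.2⟩
    rw [Nat.card_congr (Equiv.sigmaFiberEquiv F).symm, Nat.card_sigma]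
    have : ∀ q, Nat.card {x // F x = q} = r ^ d := by
      rintro ⟨q, hq⟩
      obtain ⟨x, hx, rfl⟩ := hup q hq
      obtain ⟨g, rfl⟩ := hcl t x ht hx
      rw [← hd]
      have f1 : ∀ v : W, orderOf (g * (t * v.1) * g⁻¹) = 2 := fun v => by
        rw [Invol.orderOf_conj_eq]
        refine orderOf_eq_prime ?_ fun e => hVno t ?_ ht
        · rw [pow_two, show t * v.1 * (t * v.1) = t * v.1 * t⁻¹ * (t * t) * v.1 by group, v.2.2,
            ← pow_two t, ht'.1, mul_one, inv_mul_cancel]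
        · rw [eq_inv_of_mul_eq_one_left e]
          exact V.inv_mem v.2.1
      have f2 : ∀ v : W, F ⟨g * (t * v.1) * g⁻¹, f1 v⟩ = ⟨π (g * t * g⁻¹), hq⟩ := fun v => by
        refine Subtype.ext ?_
        change π (g * (t * v.1) * g⁻¹) = π (g * t * g⁻¹)
        rw [map_mul, map_mul, map_mul, map_mul, map_mul, (hπV _).2 v.2.1, mul_one]
      have f3 : ∀ y : {x // F x = ⟨π (g * t * g⁻¹), hq⟩}, t⁻¹ * (g⁻¹ * y.1.1 * g) ∈ V := fun y => by
        have h1 : π y.1.1 = π (g * t * g⁻¹) := congrArg Subtype.val y.2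
        rw [← hπV]
        simp only [map_mul, map_inv, h1]
        group
      have f4 : ∀ y : {x // F x = ⟨π (g * t * g⁻¹), hq⟩},
          t * (t⁻¹ * (g⁻¹ * y.1.1 * g)) * t⁻¹ = (t⁻¹ * (g⁻¹ * y.1.1 * g))⁻¹ := fun y => by
        have h2 : y.1.1 * y.1.1 = 1 := by rw [← pow_two]; exact (orderOf_eq_prime_iff.1 y.1.2).1
        rw [eq_inv_iff_mul_eq_one]
        calc t * (t⁻¹ * (g⁻¹ * y.1.1 * g)) * t⁻¹ * (t⁻¹ * (g⁻¹ * y.1.1 * g))
            = g⁻¹ * y.1.1 * g * (t * t)⁻¹ * (g⁻¹ * y.1.1 * g) := by group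
          _ = g⁻¹ * (y.1.1 * y.1.1) * g := by rw [← pow_two t, ht'.1]; group
          _ = 1 := by rw [h2]; group
      exact (Nat.card_congr
        { toFun := fun v => ⟨⟨g * (t * v.1) * g⁻¹, f1 v⟩, f2 v⟩
          invFun := fun y => ⟨t⁻¹ * (g⁻¹ * y.1.1 * g), f3 y, f4 y⟩
          left_inv := fun v => Subtype.ext (by simp [mul_assoc])
          right_inv := fun y => Subtype.ext (Subtype.ext (by simp [mul_assoc])) }).symm
    rw [Finset.sum_congr rfl fun q _ => this q, Finset.sum_const, Finset.card_univ, smul_eq_mul,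
      ← Nat.card_eq_fintype_card]
  rcases Nat.eq_zero_or_pos d with hd0 | hd0
  · rw [hd0, pow_zero, mul_one] at hfib
    exact hGQ (ih _ hQlt (G ⧸ V) rfl k hk hfib.symm hclQ)
  have hrp : r = p :=
    (Nat.prime_dvd_prime_iff_eq hr hp).1
      (hr.dvd_of_dvd_pow (hfib ▸ dvd_mul_of_dvd_right (dvd_pow_self r hd0.ne') _))
  subst hrp
  obtain ⟨j, -, hj⟩ := (Nat.dvd_prime_pow hp).1 (Dvd.intro _ hfib.symm)
  rw [hj, ← pow_add] at hfib
  have hjd : k = j + d := Nat.pow_right_injective hp.two_le hfib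
  -- `t` lies in the derived group, so `d` is even
  obtain ⟨R, hRn, -, hRs, hR⟩ := exists_perfect_normal (C := (⊤ : Subgroup G))
    fun hs => hG (Group.isSolvable_of_isSolvable_injective
      (f := (Subgroup.topEquiv (G := G)).symm.toMonoidHom) (MulEquiv.injective _))
  obtain ⟨s, hs, hs2⟩ := exists_involution_of_not_solvable hRs
  have htc : t ∈ commutator G := by
    obtain ⟨g, rfl⟩ := hcl s t hs2 ht
    have : R ≤ commutator G := by
      rw [← hR, _root_.commutator_def]; exact Subgroup.commutator_mono le_top le_top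
    exact this (hRn.conj_mem s hs g)
  have hdeven : Even d := by
    open scoped IsMulCommutative in
    letI : Module (ZMod r) (Additive V) := AddCommGroup.zmodModule fun x => by
      rw [← ofMul_toMul x, ← ofMul_pow, show x.toMul ^ r = 1 from Subtype.ext (hVr _ x.toMul.2), ofMul_one]
    refine conjLinear_even (V := V) hp2 htc (by rw [← pow_two]; exact ht'.1) ?_
    rw [← hd]
    exact Nat.card_congr
      { toFun := fun v => ⟨v.1.1, v.1.2, by
          have := congrArg Subtype.val v.2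
          rw [MulAut.conjNormal_apply] at this; exact this⟩
        invFun := fun v => ⟨⟨v.1, v.2.1⟩, Subtype.ext (by
          rw [MulAut.conjNormal_apply]; exact v.2.2)⟩
        left_inv := fun _ => rfl
        right_inv := fun _ => rfl }
  rcases hk with hkodd | hk9
  · obtain ⟨a, ha⟩ := hdeven
    obtain ⟨b, hb⟩ := hkodd
    exact hGQ (ih _ hQlt (G ⧸ V) rfl j (Or.inl ⟨b - a, by omega⟩) hj hclQ)
  -- the case of nine involutions
  obtain ⟨hr3, hk2⟩ : r = 3 ∧ k = 2 := by
    have hr3 : r = 3 := (Nat.prime_dvd_prime_iff_eq hp Nat.prime_three).1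
      (hp.dvd_of_dvd_pow (show r ∣ 3 ^ 2 by
        rw [show (3 : ℕ) ^ 2 = r ^ k by rw [hk9]; norm_num]; exact dvd_pow_self r (by omega)))
    subst hr3
    exact ⟨rfl, Nat.pow_right_injective (le_of_lt (show 2 < 3 by norm_num)) hk9⟩
  obtain ⟨rfl, rfl⟩ : d = 2 ∧ j = 0 := by
    obtain ⟨a, ha⟩ := hdeven
    omega
  have hone : ∀ x : G, orderOf x = 2 → π x = π t := by
    intro x hx
    rw [pow_zero, Nat.card_eq_one_iff_unique] at hj
    exact congrArg Subtype.val (hj.1.elim ⟨π x, hdown x hx⟩ ⟨π t, hdown t ht⟩)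
  have hsame : ∀ x : G, orderOf x = 2 → ∀ v ∈ V, x * v * x⁻¹ = t * v * t⁻¹ := by
    intro x hx v hv
    have hw : t⁻¹ * x ∈ V := (hπV _).1 (by rw [map_mul, map_inv, hone x hx, inv_mul_cancel])
    rw [show x = t * (t⁻¹ * x) by group, show t * (t⁻¹ * x) * v * (t * (t⁻¹ * x))⁻¹ =
      t * ((t⁻¹ * x) * v * (t⁻¹ * x)⁻¹) * t⁻¹ by group, hcomm _ hw v hv, mul_inv_cancel_right]
  have hWn : W.Normal := ⟨fun v hv g => by
    refine ⟨hVn.conj_mem v hv.1 g, ?_⟩
    rw [← hsame (g * t * g⁻¹) (by rw [Invol.orderOf_conj_eq]; exact ht) _ (hVn.conj_mem v hv.1 g),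
      show g * t * g⁻¹ * (g * v * g⁻¹) * (g * t * g⁻¹)⁻¹ = g * (t * v * t⁻¹) * g⁻¹ by group, hv.2]
    group⟩
  have hWeq : W = V := (hVmin W hWn hWV).resolve_left fun e => by
    rw [e, Subgroup.card_bot] at hd
    rw [hr3] at hd
    norm_num at hd
  haveI : Group.IsSolvable (MulAut V) := isSolvable_mulAut (Or.inr (by
    rw [← hWeq, hd, hr3]; norm_num))
  haveI : Group.IsSolvable (MulAut.conjNormal : G →* MulAut V).ker := by
    refine Cfsg.Agent.S0205.result (Nat.not_even_iff_odd.1 fun hev => ?_)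
    obtain ⟨x, hx, hx2⟩ := Invol.exists_orderOf_two_mem hev
    obtain ⟨v, hv, hv1⟩ : ∃ v ∈ V, v ≠ 1 := by
      by_contra hc
      push Not at hc
      exact hV1 ((Subgroup.eq_bot_iff_forall V).2 hc)
    have h1 : x * v * x⁻¹ = v := by
      have := congrArg (fun φ : MulAut V => ((φ ⟨v, hv⟩ : V) : G)) (MonoidHom.mem_ker.1 hx)
      simpa [MulAut.conjNormal_apply] using this
    have h2 : t * v * t⁻¹ = v⁻¹ := (show v ∈ W from hWeq.symm ▸ hv).2
    rw [hsame x hx2 v hv, h2] at h1
    refine hv1 ?_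
    have hv3 := hVr v hv
    rw [hr3, pow_succ, pow_two] at hv3
    have h4 : v * v = 1 := by nth_rewrite 1 [← h1]; exact inv_mul_cancel v
    rwa [h4, one_mul] at hv3
  exact hG (isSolvable_of_range (MulAut.conjNormal : G →* MulAut V))

end Cfsg.Agent.Grp.Pyramidal
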