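import Mathlib
import Cfsg.Agent.Lib.Classical.DicksonOvergroups

/-!
# A non-solvable group with one class of `p ^ (2 * j)` involutions

The natural module of `SL(2, q)` extended by `SL(2, q)`, `q = p ^ j` odd and at least four.
-/

set_option autoImplicit false
set_option linter.style.haveILetI false
set_option linter.unusedSectionVars false

namespace Cfsg.Agent.Grp.Pyramidal

open Matrix

variable (F : Type) [Field F]

/-- The action of `SL(2, F)` on the natural module. -/
def natAct : Matrix.SpecialLinearGroup (Fin 2) F →* MulAut (Multiplicative (Fin 2 → F)) where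
  toFun A :=
    { toFun := fun v => Multiplicative.ofAdd ((A : Matrix (Fin 2) (Fin 2) F) *ᵥ v.toAdd)
      invFun := fun v => Multiplicative.ofAdd (((A⁻¹ : Matrix.SpecialLinearGroup (Fin 2) F) :
        Matrix (Fin 2) (Fin 2) F) *ᵥ v.toAdd)
      left_inv := fun v => by
        simp only [toAdd_ofAdd, Matrix.mulVec_mulVec]
        rw [← Matrix.SpecialLinearGroup.coe_mul, inv_mul_cancel, Matrix.SpecialLinearGroup.coe_one,
          Matrix.one_mulVec]
        rfl
      right_inv := fun v => by
        simp only [toAdd_ofAdd, Matrix.mulVec_mulVec]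
        rw [← Matrix.SpecialLinearGroup.coe_mul, mul_inv_cancel, Matrix.SpecialLinearGroup.coe_one,
          Matrix.one_mulVec]
        rfl
      map_mul' := fun v w => congrArg Multiplicative.ofAdd (Matrix.mulVec_add _ _ _) }
  map_one' := MulEquiv.ext fun v => by simp
  map_mul' A B := MulEquiv.ext fun v => by
    change Multiplicative.ofAdd (((A * B : Matrix.SpecialLinearGroup (Fin 2) F) :
      Matrix (Fin 2) (Fin 2) F) *ᵥ v.toAdd) =
      Multiplicative.ofAdd ((A : Matrix (Fin 2) (Fin 2) F) *ᵥ
        ((B : Matrix (Fin 2) (Fin 2) F) *ᵥ v.toAdd))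
    rw [Matrix.SpecialLinearGroup.coe_mul, Matrix.mulVec_mulVec]

/-- The witness group. -/
abbrev Affine : Type := Multiplicative (Fin 2 → F) ⋊[natAct F] Matrix.SpecialLinearGroup (Fin 2) F

variable {F}

theorem eq_one_or_neg_of_sq (h2 : (2 : F) ≠ 0) {A : Matrix.SpecialLinearGroup (Fin 2) F}
    (h : A * A = 1) : A = 1 ∨ A = -1 := by
  have e := congrArg (fun B : Matrix.SpecialLinearGroup (Fin 2) F => (B : Matrix (Fin 2) (Fin 2) F)) h
  simp only [Matrix.SpecialLinearGroup.coe_mul, Matrix.SpecialLinearGroup.coe_one] at e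
  have hd : A 0 0 * A 1 1 - A 0 1 * A 1 0 = 1 := by
    rw [← Matrix.det_fin_two]; exact A.2
  have e00 := congrFun (congrFun e 0) 0
  have e01 := congrFun (congrFun e 0) 1
  have e10 := congrFun (congrFun e 1) 0
  have e11 := congrFun (congrFun e 1) 1
  simp [Matrix.mul_apply, Fin.sum_univ_two] at e00 e01 e10 e11
  have hs : A 0 0 + A 1 1 ≠ 0 := fun hs => h2 (by
    linear_combination A 0 0 * hs - e00 - hd)
  have hb : A 0 1 = 0 := (mul_eq_zero.1 (show A 0 1 * (A 0 0 + A 1 1) = 0 by
    linear_combination e01)).resolve_right hs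
  have hc : A 1 0 = 0 := (mul_eq_zero.1 (show A 1 0 * (A 0 0 + A 1 1) = 0 by
    linear_combination e10)).resolve_right hs
  rw [hb, hc] at e00
  rw [hb, hc] at hd
  rcases mul_self_eq_one_iff.1 (show A 0 0 * A 0 0 = 1 by linear_combination e00) with ha | ha
  · left
    have hd' : A 1 1 = 1 := by rw [ha] at hd; linear_combination hd
    ext i j
    fin_cases i <;> fin_cases j <;> simp [ha, hb, hc, hd']
  · right
    have hd' : A 1 1 = -1 := by rw [ha] at hd; linear_combination -hd
    ext i j
    fin_cases i <;> fin_cases j <;> simp [ha, hb, hc, hd']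

theorem natAct_neg (v : Multiplicative (Fin 2 → F)) : natAct F (-1) v = v⁻¹ := by
  change Multiplicative.ofAdd (((-1 : Matrix.SpecialLinearGroup (Fin 2) F) :
    Matrix (Fin 2) (Fin 2) F) *ᵥ v.toAdd) = _
  rw [Matrix.SpecialLinearGroup.coe_neg, Matrix.SpecialLinearGroup.coe_one, Matrix.neg_mulVec,
    Matrix.one_mulVec]
  rfl

theorem neg_one_ne_one (h2 : (2 : F) ≠ 0) : (-1 : Matrix.SpecialLinearGroup (Fin 2) F) ≠ 1 := by
  intro h
  have := congrArg (fun B : Matrix.SpecialLinearGroup (Fin 2) F => B 0 0) h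
  simp at this
  exact h2 (by linear_combination -this)

theorem orderOf_eq_two_iff (h2 : (2 : F) ≠ 0) (x : Affine F) :
    orderOf x = 2 ↔ x.right = -1 := by
  constructor
  · intro hx
    obtain ⟨hx2, hx1⟩ := orderOf_eq_prime_iff.1 hx
    rw [pow_two] at hx2
    refine (eq_one_or_neg_of_sq h2 (congrArg (fun y : Affine F => y.right) hx2)).resolve_left fun hr => hx1 ?_
    have hl := congrArg (fun y : Affine F => y.left) hx2
    simp only [SemidirectProduct.mul_left, SemidirectProduct.one_left, hr, map_one,
      MulAut.one_apply] at hl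
    refine SemidirectProduct.ext ?_ hr
    have h3 : x.left.toAdd + x.left.toAdd = 0 := congrArg Multiplicative.toAdd hl
    rw [← two_smul F, smul_eq_zero] at h3
    exact congrArg Multiplicative.ofAdd (h3.resolve_left h2)
  · intro hr
    refine orderOf_eq_prime ?_ fun e => neg_one_ne_one h2 ?_
    · rw [pow_two]
      refine SemidirectProduct.ext ?_ ?_
      · rw [SemidirectProduct.mul_left, hr, natAct_neg, mul_inv_cancel]
        rfl
      · rw [SemidirectProduct.mul_right, hr]
        simp
    · rw [← hr, e]; rfl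

/-- The converse direction. -/
theorem exists_nonsolvable (p k : ℕ) (hp : p.Prime) (hp2 : p ≠ 2) (hk : 1 ≤ k) (hev : Even k)
    (h9 : p ^ k ≠ 9) :
    ∃ (G : Type) (_ : Group G) (_ : Finite G), Nat.card {x : G // orderOf x = 2} = p ^ k ∧
      (∀ x y : G, orderOf x = 2 → orderOf y = 2 → ∃ g : G, g * x * g⁻¹ = y) ∧
      ¬ Group.IsSolvable G := by
  classical
  haveI := Fact.mk hp
  obtain ⟨j, rfl⟩ := hev
  have hj : j ≠ 0 := by omega
  let K := GaloisField p j
  have hcard : Nat.card K = p ^ j := GaloisField.card p j hj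
  haveI : Fintype K := Fintype.ofFinite K
  haveI : Finite (Matrix (Fin 2) (Fin 2) K) := inferInstanceAs (Finite (Fin 2 → Fin 2 → K))
  haveI : Finite (Affine K) := Finite.of_equiv _ SemidirectProduct.equivProd.symm
  have hp3 : 3 ≤ p := by have := hp.two_le; omega
  have h4 : 4 ≤ Fintype.card K := by
    rw [← Nat.card_eq_fintype_card, hcard]
    rcases (show j = 1 ∨ 2 ≤ j by omega) with rfl | hj2
    · rw [pow_one]
      by_contra hlt
      exact h9 (by rw [show p = 3 by omega]; norm_num)
    · calc 4 ≤ 3 ^ 2 := by norm_num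
        _ ≤ p ^ 2 := Nat.pow_le_pow_left hp3 2
        _ ≤ p ^ j := Nat.pow_le_pow_right hp.pos hj2
  have h2 : (2 : K) ≠ 0 := by
    intro h
    have h' : ((2 : ℕ) : K) = 0 := by exact_mod_cast h
    rw [CharP.cast_eq_zero_iff K p] at h'
    exact hp2 ((Nat.prime_dvd_prime_iff_eq hp Nat.prime_two).1 h')
  refine ⟨Affine K, inferInstance, inferInstance, ?_, ?_, ?_⟩
  · rw [Nat.card_congr (α := {x : Affine K // orderOf x = 2}) (β := Fin 2 → K)
      { toFun := fun x => x.1.left.toAdd
        invFun := fun v => ⟨⟨Multiplicative.ofAdd v, -1⟩, (orderOf_eq_two_iff h2 _).2 rfl⟩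
        left_inv := fun x => Subtype.ext
          (SemidirectProduct.ext rfl ((orderOf_eq_two_iff h2 _).1 x.2).symm)
        right_inv := fun _ => rfl }, Nat.card_fun, hcard, Nat.card_fin, ← pow_mul, mul_two]
  · intro x y hx hy
    rw [orderOf_eq_two_iff h2] at hx hy
    refine ⟨⟨Multiplicative.ofAdd ((2 : K)⁻¹ • (y.left.toAdd - x.left.toAdd)), 1⟩, ?_⟩
    set w := (2 : K)⁻¹ • (y.left.toAdd - x.left.toAdd) with hw
    refine SemidirectProduct.ext ?_ ?_
    · simp only [SemidirectProduct.mul_left, SemidirectProduct.mul_right, SemidirectProduct.inv_left,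
        map_one, MulAut.one_apply, inv_one, one_mul, hx, natAct_neg, inv_inv]
      rw [inv_inv]
      apply Multiplicative.toAdd.injective
      simp only [toAdd_mul, toAdd_ofAdd]
      rw [hw]
      funext i
      simp only [Pi.add_apply, Pi.smul_apply, Pi.sub_apply, smul_eq_mul]
      linear_combination (y.left.toAdd i - x.left.toAdd i) * inv_mul_cancel₀ h2
    · simp [hx, hy]
  · intro hs
    haveI := hs
    haveI : Group.IsSolvable (Matrix.SpecialLinearGroup (Fin 2) K) :=
      Group.isSolvable_of_surjective (f := (SemidirectProduct.rightHom : Affine K →* _))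
        SemidirectProduct.rightHom_surjective
    exact Cfsg.Agent.Dickson.not_solvable_psl (K := K) h4
      (Group.isSolvable_of_surjective (f := QuotientGroup.mk'
        (Subgroup.center (Matrix.SpecialLinearGroup (Fin 2) K))) (QuotientGroup.mk'_surjective _))

end Cfsg.Agent.Grp.Pyramidal
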